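import Mathlib

/-!
# Binary actions on cosets: a criterion for failure and a criterion for binarity

The action of `G` on `G ⧸ H` is binary when any two tuples of cosets which are pairwise related by
elements of `G` are related by a single element.
-/

set_option autoImplicit false

namespace CfsgLib.KnownA.Suzuki.Binary

open MulAction

variable {G : Type*} [Group G]

/-- The action on the cosets of `H` is binary. -/
def IsBinary (H : Subgroup G) : Prop :=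
  ∀ (n : ℕ) (I J : Fin n → G ⧸ H), 2 ≤ n →
    (∀ i j : Fin n, i ≠ j → ∃ g : G, g • I i = J i ∧ g • I j = J j) → ∃ g : G, ∀ i, g • I i = J i

theorem smul_mk_eq {H : Subgroup G} {x g : G} :
    x • (g : G ⧸ H) = (g : G ⧸ H) ↔ g⁻¹ * x * g ∈ H := by
  rw [MulAction.Quotient.smul_coe, smul_eq_mul, eq_comm, QuotientGroup.eq, mul_assoc]

theorem smul_one_eq {H : Subgroup G} {x : G} : x • ((1 : G) : G ⧸ H) = ((1 : G) : G ⧸ H) ↔ x ∈ H := by
  rw [smul_mk_eq]; simp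

/-- An element of `H` which is a product `k * l` of elements of two conjugates of `H`, but not a
product of elements of the two intersections with `H`. -/
def HasTriangle (H : Subgroup G) : Prop :=
  ∃ x k l g g' : G, x ∈ H ∧ g⁻¹ * k * g ∈ H ∧ g'⁻¹ * l * g' ∈ H ∧ x = k * l ∧
    ∀ m₁ m₂ : G, m₁ ∈ H → g⁻¹ * m₁ * g ∈ H → m₂ ∈ H → g'⁻¹ * m₂ * g' ∈ H → m₁ * m₂ ≠ x

theorem HasTriangle.not_isBinary {H : Subgroup G} (h : HasTriangle H) : ¬ IsBinary H := by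
  obtain ⟨x, k, l, g, g', hx, hk, hl, hxkl, hno⟩ := h
  intro hbin
  set ω₀ : G ⧸ H := ((1 : G) : G ⧸ H)
  set ω₁ : G ⧸ H := (g : G ⧸ H)
  set ω₂ : G ⧸ H := (g' : G ⧸ H)
  have h0 : x • ω₀ = ω₀ := smul_one_eq.2 hx
  have h1 : k • ω₁ = ω₁ := smul_mk_eq.2 hk
  have h2 : k • ω₂ = x • ω₂ := by rw [hxkl, mul_smul, smul_mk_eq.2 hl]
  obtain ⟨f, hf⟩ := hbin 3 ![ω₀, ω₁, ω₂] ![ω₀, ω₁, x • ω₂] (by norm_num) (by
    intro i j hij
    fin_cases i <;> fin_cases j <;>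
      first
        | exact absurd rfl hij
        | exact ⟨1, one_smul _ _, one_smul _ _⟩
        | exact ⟨x, h0, rfl⟩
        | exact ⟨x, rfl, h0⟩
        | exact ⟨k, h1, h2⟩
        | exact ⟨k, h2, h1⟩)
  have e0 : f • ω₀ = ω₀ := hf 0
  have e1 : f • ω₁ = ω₁ := hf 1
  have e2 : f • ω₂ = x • ω₂ := hf 2
  refine hno f (f⁻¹ * x) (smul_one_eq.1 e0) (smul_mk_eq.1 e1)
    (H.mul_mem (H.inv_mem (smul_one_eq.1 e0)) hx) (smul_mk_eq.1 ?_) (mul_inv_cancel_left f x)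
  show (f⁻¹ * x) • ω₂ = ω₂
  rw [mul_smul, ← e2, inv_smul_smul]

theorem HasTriangle.of_conj {H : Subgroup G} (c : G)
    (h : HasTriangle (H.map (MulAut.conj c).toMonoidHom)) : HasTriangle H := by
  have hm : ∀ y, y ∈ H.map (MulAut.conj c).toMonoidHom ↔ c⁻¹ * y * c ∈ H := fun y => by
    rw [Subgroup.mem_map_equiv, MulAut.conj_symm_apply]
  obtain ⟨x, k, l, g, g', hx, hk, hl, hxkl, hno⟩ := h
  rw [hm] at hx hk hl
  have hr : ∀ g y : G, (c⁻¹ * g * c)⁻¹ * (c⁻¹ * y * c) * (c⁻¹ * g * c) = c⁻¹ * (g⁻¹ * y * g) * c :=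
    fun g y => by group
  refine ⟨c⁻¹ * x * c, c⁻¹ * k * c, c⁻¹ * l * c, c⁻¹ * g * c, c⁻¹ * g' * c, hx, by rwa [hr],
    by rwa [hr], by rw [hxkl]; group, fun m₁ m₂ h1 h1' h2 h2' e => ?_⟩
  have hback : ∀ g y : G, c⁻¹ * (g⁻¹ * (c * y * c⁻¹) * g) * c =
      (c⁻¹ * g * c)⁻¹ * y * (c⁻¹ * g * c) := fun g y => by group
  refine hno (c * m₁ * c⁻¹) (c * m₂ * c⁻¹) ((hm _).2 (by simpa [mul_assoc] using h1))
    ((hm _).2 (by rw [hback]; exact h1')) ((hm _).2 (by simpa [mul_assoc] using h2))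
    ((hm _).2 (by rw [hback]; exact h2')) ?_
  have := congrArg (fun y => c * y * c⁻¹) e
  simpa [mul_assoc] using this

/-- A transitive action in which products of non-trivial elements of two different point stabilisers
fix no point is binary. -/
theorem binary_of_stabilizers {Ω : Type*} [MulAction G Ω]
    (hA : ∀ (ω ω' ω'' : Ω) (a b : G), a • ω = ω → b • ω' = ω' → (a⁻¹ * b) • ω'' = ω'' →
      a = 1 ∨ b = 1 ∨ stabilizer G ω = stabilizer G ω')
    (n : ℕ) (I J : Fin n → Ω) (hn : 2 ≤ n)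
    (hp : ∀ i j : Fin n, i ≠ j → ∃ g : G, g • I i = J i ∧ g • I j = J j) :
    ∃ g : G, ∀ i, g • I i = J i := by
  classical
  let i₀ : Fin n := ⟨0, by omega⟩
  let i₁ : Fin n := ⟨1, by omega⟩
  have hex : ∀ i j : Fin n, ∃ g : G, g • I i = J i ∧ g • I j = J j := by
    intro i j
    by_cases h : i = j
    · subst h
      obtain ⟨k, hk⟩ : ∃ k, i ≠ k := by
        by_cases h0 : i = i₀
        · exact ⟨i₁, by rw [h0]; exact fun h => by simp [i₀, i₁, Fin.ext_iff] at h⟩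
        · exact ⟨i₀, h0⟩
      obtain ⟨g, hg, -⟩ := hp i k hk
      exact ⟨g, hg, hg⟩
    · exact hp i j h
  choose g hg hg' using hex
  have hfix : ∀ {a b : G} {ω ω' : Ω}, a • ω = ω' → b • ω = ω' → (a⁻¹ * b) • ω = ω := by
    intro a b ω ω' ha hb
    rw [mul_smul, hb, ← ha, inv_smul_smul]
  have hback : ∀ {a b : G} {ω ω' : Ω}, (a⁻¹ * b) • ω = ω → b • ω = ω' → a • ω = ω' := by
    intro a b ω ω' h hb
    rw [mul_smul, inv_smul_eq_iff] at h
    rw [← h, hb]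
  by_cases hsame : ∀ j, stabilizer G (I j) = stabilizer G (I i₀)
  · refine ⟨g i₀ i₁, fun j => hback (b := g i₀ j) ?_ (hg' i₀ j)⟩
    have h : (g i₀ i₁)⁻¹ * g i₀ j ∈ stabilizer G (I i₀) := hfix (hg i₀ i₁) (hg i₀ j)
    rw [← hsame j] at h
    exact h
  · push Not at hsame
    obtain ⟨k, hk⟩ := hsame
    refine ⟨g i₀ k, fun j => ?_⟩
    have ha : ((g i₀ k)⁻¹ * g i₀ j) • I i₀ = I i₀ := hfix (hg i₀ k) (hg i₀ j)
    have hb : ((g i₀ k)⁻¹ * g k j) • I k = I k := hfix (hg' i₀ k) (hg k j)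
    have hab : (((g i₀ k)⁻¹ * g i₀ j)⁻¹ * ((g i₀ k)⁻¹ * g k j)) • I j = I j := by
      rw [show ((g i₀ k)⁻¹ * g i₀ j)⁻¹ * ((g i₀ k)⁻¹ * g k j) = (g i₀ j)⁻¹ * g k j by group]
      exact hfix (hg' i₀ j) (hg' k j)
    rcases hA _ _ _ _ _ ha hb hab with h | h | h
    · rw [inv_mul_eq_one.1 h]; exact hg' i₀ j
    · rw [inv_mul_eq_one.1 h]; exact hg' k j
    · exact absurd h.symm hk

end CfsgLib.KnownA.Suzuki.Binary
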