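import Mathlib

/-!
# Scalar multiples of an additive subgroup of a finite field of characteristic two

A proper non-zero additive subgroup `R` has two multiples `λR`, `μR` such that some element of
`R` lies in `λR + μR` but not in `(R ∩ λR) + (R ∩ μR)`.
-/

set_option autoImplicit false

namespace CfsgLib.KnownA.Suzuki.Binary

variable {F : Type*} [Field F] [Fintype F]

/-- For a set `S` of size below the square root of `q`, closed under nothing in particular: a scalar
moving all non-zero members out of `S`. -/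
theorem exists_scalar {M : Type*} [AddCommGroup M] [Finite M] (act : F → M → M)
    (hinj : ∀ s : M, s ≠ 0 → Function.Injective (fun r => act r s)) (S : AddSubgroup M)
    (hcard : Nat.card S * Nat.card S ≤ Fintype.card F) :
    ∃ ρ : F, ρ ≠ 0 ∧ ∀ s ∈ S, s ≠ 0 → act ρ s ∉ S := by
  classical
  by_contra hall
  push Not at hall
  have hex : ∀ ρ : {ρ : F // ρ ≠ 0}, ∃ p : {s : S // s ≠ 0} × S, act ρ.1 (p.1.1 : M) = (p.2 : M) := by
    rintro ⟨ρ, hρ⟩
    obtain ⟨s, hs, hs0, hmem⟩ := hall ρ hρ
    exact ⟨(⟨⟨s, hs⟩, fun h => hs0 (congrArg Subtype.val h)⟩, ⟨_, hmem⟩), rfl⟩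
  choose f hf using hex
  have hfi : Function.Injective f := fun a b h => by
    have hne : ((f a).1.1 : M) ≠ 0 := fun h0 => (f a).1.2 (Subtype.ext h0)
    refine Subtype.ext (hinj _ hne ?_)
    show act a.1 _ = act b.1 _
    rw [hf a, h, ← hf b]
  haveI : Fintype M := Fintype.ofFinite M
  have h1 := Nat.card_le_card_of_injective f hfi
  rw [Nat.card_prod] at h1
  have e1 : Nat.card {ρ : F // ρ ≠ 0} = Fintype.card F - 1 := by
    rw [Nat.card_eq_fintype_card, Fintype.card_subtype_compl, Fintype.card_subtype_eq]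
  have e2 : Nat.card {s : S // s ≠ 0} = Nat.card S - 1 := by
    rw [Nat.card_eq_fintype_card, Fintype.card_subtype_compl, Fintype.card_subtype_eq,
      Nat.card_eq_fintype_card]
  rw [e1, e2, Nat.sub_mul, one_mul] at h1
  have h2 : 1 < Fintype.card F := Fintype.one_lt_card
  have h3 : 0 < Nat.card S := Nat.card_pos
  have h4 : Nat.card S * Nat.card S - Nat.card S ≤ Fintype.card F - Nat.card S :=
    Nat.sub_le_sub_right hcard _
  have h5 : Nat.card S ≤ 1 := by omega
  have h6 : Nat.card S = 1 := le_antisymm h5 h3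
  rw [h6] at h1
  omega

/-- The failure of distributivity for three scalar multiples of `R`. -/
theorem exists_nondistributive (h2 : (2 : F) = 0) (R : AddSubgroup F) (hR0 : R ≠ ⊥) (hR1 : R ≠ ⊤) :
    ∃ lam mu : F, lam ≠ 0 ∧ mu ≠ 0 ∧ ∃ x ∈ R, (∃ a ∈ R, ∃ b ∈ R, x = lam * a + mu * b) ∧
      ∀ y z : F, y ∈ R → lam⁻¹ * y ∈ R → z ∈ R → mu⁻¹ * z ∈ R → y + z ≠ x := by
  classical
  haveI : CharP F 2 := CharTwo.of_one_ne_zero_of_two_eq_zero one_ne_zero h2
  by_cases hsmall : Nat.card R * Nat.card R ≤ Fintype.card F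
  · obtain ⟨ρ, hρ, hdis⟩ := exists_scalar (fun (r : F) (s : F) => r * s)
      (fun s hs a b h => mul_right_cancel₀ hs h) R hsmall
    obtain ⟨r₀, hr₀, hr₀0⟩ : ∃ r ∈ R, r ≠ 0 := by
      by_contra h
      push Not at h
      exact hR0 ((AddSubgroup.eq_bot_iff_forall _).2 h)
    have hρ1 : ρ ≠ 1 := by
      rintro rfl
      exact hdis _ hr₀ hr₀0 (by rwa [one_mul])
    have hμ : 1 + ρ ≠ 0 := fun h => hρ1 (CharTwo.add_eq_zero.1 h).symm
    obtain ⟨x, hx, hxμ⟩ : ∃ x ∈ R, (1 + ρ)⁻¹ * x ∉ R := by
      by_contra h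
      push Not at h
      -- then multiplication by `(1 + ρ)⁻¹` permutes `R`, so `ρ R ≤ R`
      obtain ⟨⟨w, hw⟩, hwe⟩ := Finite.surjective_of_injective
        (f := fun r : R => (⟨_, h r r.2⟩ : R))
        (fun a b e => Subtype.ext (mul_left_cancel₀ (inv_ne_zero hμ) (congrArg Subtype.val e)))
        ⟨r₀, hr₀⟩
      have hw' : w = (1 + ρ) * r₀ := by
        have := congrArg Subtype.val hwe
        change (1 + ρ)⁻¹ * w = r₀ at this
        rw [← this, mul_inv_cancel_left₀ hμ]
      refine hdis _ hr₀ hr₀0 ?_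
      have h' : ρ * r₀ = w - r₀ := by rw [hw']; ring
      rw [h']
      exact R.sub_mem hw hr₀
    refine ⟨ρ, 1 + ρ, hρ, hμ, x, hx, ⟨x, hx, x, hx, ?_⟩, fun y z hy hy' _ hz' hyz => ?_⟩
    · linear_combination -(ρ * x) * h2
    · have hy0 : y = 0 := by
        by_contra hne
        exact hdis _ hy' (mul_ne_zero (inv_ne_zero hρ) hne) (by rwa [mul_inv_cancel_left₀ hρ])
      rw [hy0, zero_add] at hyz
      exact hxμ (hyz ▸ hz')
  · letI : Algebra (ZMod 2) F := ZMod.algebra F 2
    set W : Submodule (ZMod 2) F := AddSubgroup.toZModSubmodule 2 R with hW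
    have hmemW : ∀ {v : F}, v ∈ W ↔ v ∈ R := Iff.rfl
    set S : Submodule (ZMod 2) (Module.Dual (ZMod 2) F) := W.dualAnnihilator with hS
    let act : F → Module.Dual (ZMod 2) F → Module.Dual (ZMod 2) F :=
      fun r f => f.comp (LinearMap.mulLeft (ZMod 2) r)
    have hact : ∀ r f v, act r f v = f (r * v) := fun _ _ _ => rfl
    haveI : Finite (Module.Dual (ZMod 2) F) :=
      Finite.of_injective (fun f => (f : F → ZMod 2)) DFunLike.coe_injective
    have hinj : ∀ f : Module.Dual (ZMod 2) F, f ≠ 0 → Function.Injective (fun r => act r f) := by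
      intro f hf a b h
      by_contra hab
      refine hf (LinearMap.ext fun v => ?_)
      have h1 := LinearMap.congr_fun h ((a - b)⁻¹ * v)
      rw [hact, hact, ← sub_eq_zero, ← map_sub, ← sub_mul, mul_inv_cancel_left₀ (sub_ne_zero.2 hab)]
        at h1
      exact h1
    have hdim : Nat.card S * Nat.card R = Fintype.card F := by
      have h := Subspace.finrank_add_finrank_dualAnnihilator_eq W
      show Nat.card S * Nat.card W = _
      rw [Module.natCard_eq_pow_finrank (K := ZMod 2) (V := S),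
        Module.natCard_eq_pow_finrank (K := ZMod 2) (V := W), ← pow_add, add_comm,
        ← Nat.card_eq_fintype_card (α := F), Module.natCard_eq_pow_finrank (K := ZMod 2) (V := F)]
      rw [← hS] at h
      exact congrArg _ h
    have hcard : Nat.card S * Nat.card S ≤ Fintype.card F := by
      rw [← hdim]
      refine Nat.mul_le_mul_left _ (le_of_not_gt fun h => hsmall ?_)
      rw [← hdim]
      exact Nat.mul_le_mul_right _ h.le
    obtain ⟨ρ, hρ, hdis⟩ := exists_scalar act hinj S.toAddSubgroup hcard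
    obtain ⟨f₀, hf₀, hf₀0⟩ : ∃ f ∈ S, f ≠ 0 := by
      obtain ⟨v, hv⟩ : ∃ v : F, v ∉ R := by
        by_contra h
        push Not at h
        exact hR1 (eq_top_iff.2 fun v _ => h v)
      by_contra h
      push Not at h
      refine hv (hmemW.1 ((Subspace.forall_mem_dualAnnihilator_apply_eq_zero_iff W v).1 fun f hf => ?_))
      rw [h f hf]; rfl
    have hρ1 : ρ ≠ 1 := by
      rintro rfl
      refine hdis _ hf₀ hf₀0 ?_
      show act 1 f₀ ∈ S
      rwa [show act 1 f₀ = f₀ from LinearMap.ext fun v => by rw [hact, one_mul]]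
    have hρ1' : ρ + 1 ≠ 0 := fun h => hρ1 (CharTwo.add_eq_zero.1 h)
    set ν : F := (ρ + 1)⁻¹ with hν
    have hν0 : ν ≠ 0 := inv_ne_zero hρ1'
    have hν1 : 1 + ν = ρ * ν := by
      rw [hν]
      field_simp
      linear_combination h2
    have hν10 : 1 + ν ≠ 0 := by rw [hν1]; exact mul_ne_zero hρ hν0
    -- the two translates of the annihilator meet trivially
    have hmeet : ∀ f : Module.Dual (ZMod 2) F, (∀ a ∈ R, f (ν⁻¹ * a) = 0) →
        (∀ a ∈ R, f ((1 + ν)⁻¹ * a) = 0) → f = 0 := by
      intro f h1 h2'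
      set g := act (1 + ν)⁻¹ f with hg
      have hgS : g ∈ S := (Submodule.mem_dualAnnihilator g).2 fun a ha => h2' a ha
      by_contra hf
      have hg0 : g ≠ 0 := fun h => hf (LinearMap.ext fun v => by
        have h' := LinearMap.congr_fun h ((1 + ν) * v)
        rwa [hg, hact, inv_mul_cancel_left₀ hν10] at h')
      refine hdis g hgS hg0 ((Submodule.mem_dualAnnihilator _).2 fun a ha => ?_)
      rw [hact, hg, hact, hν1]
      convert h1 a ha using 2
      field_simp
    -- so every element is a sum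
    have hsum : ∀ v : F, ∃ a ∈ R, ∃ b ∈ R, v = ν⁻¹ * a + (1 + ν)⁻¹ * b := by
      intro v
      set T : Submodule (ZMod 2) F := W.map (LinearMap.mulLeft (ZMod 2) ν⁻¹) ⊔
        W.map (LinearMap.mulLeft (ZMod 2) (1 + ν)⁻¹) with hT
      have hv : v ∈ T := by
        refine (Subspace.forall_mem_dualAnnihilator_apply_eq_zero_iff T v).1 fun f hf => ?_
        rw [Submodule.mem_dualAnnihilator] at hf
        rw [hmeet f (fun a ha => hf _ (Submodule.mem_sup_left ⟨a, ha, rfl⟩))
          (fun a ha => hf _ (Submodule.mem_sup_right ⟨a, ha, rfl⟩))]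
        rfl
      obtain ⟨_, ⟨a, ha, rfl⟩, _, ⟨b, hb, rfl⟩, rfl⟩ := Submodule.mem_sup.1 hv
      exact ⟨a, ha, b, hb, rfl⟩
    -- a functional vanishing on both intersections but not on `R`
    obtain ⟨s, hs, hsS⟩ : ∃ s ∈ S, act (1 + ν) s ∉ S := by
      by_contra h
      push Not at h
      refine hf₀0 (hmeet f₀ (fun a ha => ?_) (fun a ha => ?_))
      · -- `act ν` also maps `S` into itself, hence onto itself
        have hν' : ∀ s ∈ S, act ν s ∈ S := fun s hs => by
          have : act ν s = act (1 + ν) s - s := LinearMap.ext fun v => by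
            rw [LinearMap.sub_apply, hact, hact, ← map_sub]; congr 1; ring
          rw [this]
          exact S.sub_mem (h s hs) hs
        obtain ⟨⟨w, hw⟩, hwe⟩ := Finite.surjective_of_injective
          (f := fun s : S => (⟨_, hν' s s.2⟩ : S))
          (fun p q e => Subtype.ext (LinearMap.ext fun v => by
            have := LinearMap.congr_fun (congrArg Subtype.val e) (ν⁻¹ * v)
            simpa [hact, mul_inv_cancel_left₀ hν0] using this)) ⟨f₀, hf₀⟩
        have e : act ν w = f₀ := congrArg Subtype.val hwe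
        rw [← e, hact, mul_inv_cancel_left₀ hν0]
        exact (Submodule.mem_dualAnnihilator w).1 hw a ha
      · obtain ⟨⟨w, hw⟩, hwe⟩ := Finite.surjective_of_injective
          (f := fun s : S => (⟨_, h s s.2⟩ : S))
          (fun p q e => Subtype.ext (LinearMap.ext fun v => by
            have := LinearMap.congr_fun (congrArg Subtype.val e) ((1 + ν)⁻¹ * v)
            simpa [hact, mul_inv_cancel_left₀ hν10] using this)) ⟨f₀, hf₀⟩
        have e : act (1 + ν) w = f₀ := congrArg Subtype.val hwe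
        rw [← e, hact, mul_inv_cancel_left₀ hν10]
        exact (Submodule.mem_dualAnnihilator w).1 hw a ha
    obtain ⟨x, hxR, hx⟩ : ∃ x ∈ R, s ((1 + ν) * x) ≠ 0 := by
      by_contra h
      push Not at h
      exact hsS ((Submodule.mem_dualAnnihilator _).2 h)
    have hsR : ∀ a ∈ R, s a = 0 := fun a ha => (Submodule.mem_dualAnnihilator s).1 hs a ha
    refine ⟨ν⁻¹, (1 + ν)⁻¹, inv_ne_zero hν0, inv_ne_zero hν10, x, hxR, hsum x,
      fun y z hy hy' hz hz' hyz => hx ?_⟩
    rw [inv_inv] at hy' hz'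
    have e : (1 + ν) * x = y + ν * y + (1 + ν) * z := by rw [← hyz]; ring
    rw [e, map_add, map_add, hsR _ hy, hsR _ hy', hsR _ hz', add_zero, add_zero]

end CfsgLib.KnownA.Suzuki.Binary
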