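import Cfsg.Agent.Lib.KnownA.Suzuki.Binary.Four
import Cfsg.Agent.Lib.KnownA.Suzuki.Binary.Scalar

/-!
# Triangles for the subgroups of a Borel subgroup
-/

set_option autoImplicit false

namespace CfsgLib.KnownA.Suzuki.Binary

open Matrix Cfsg.Lie

variable {F : Type*} [Field F] [Fintype F] {e m : ℕ} (H : TitsField F e) (hm : 1 ≤ m)
  (hF : Fintype.card F = 2 ^ (2 * m + 1)) (he : e = 2 ^ (m + 1))

include H

omit [Fintype F] in
/-- Products in the Borel subgroup with central unipotent parts. -/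
theorem szsh_mul (b d : F) (r s : Fˣ) :
    sz H b * sh H r * (sz H d * sh H s) =
      sz H (b + ((r⁻¹ : Fˣ) : F) ^ (e + 2) * d) * sh H (r * s) := by
  rw [mul_assoc, ← mul_assoc (sh H r), sh_mul_su, mul_zero, mul_assoc, sh_mul, ← mul_assoc, su_mul]
  simp [H.e_ne]

omit [Fintype F] in
theorem su_sh_inj {a b c d : F} {r s : Fˣ} (h : su H a b * sh H r = su H c d * sh H s) :
    a = c ∧ b = d ∧ r = s := by
  have h' : normalForm H (none, (a, b), r) = normalForm H (none, (c, d), s) := by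
    simp only [normalForm, rep, one_mul]; exact h
  simpa [and_assoc] using normalForm_injective H h'

omit [Fintype F] in
theorem mem_borel_eq {M : Subgroup (Sz F e)} (hM : M ≤ borel H) {g : Sz F e} (hg : g ∈ M) :
    ∃ (a b : F) (t : Fˣ), g = su H a b * sh H t := hM hg

include hm hF he in
/-- The subgroups `Z R ⋊ A` with central unipotent part. -/
theorem cases_central {M : Subgroup (Sz F e)} (hM : M ≤ borel H) (R : AddSubgroup F) (hR : R ≠ ⊥)
    (hmemR : ∀ b, b ∈ R ↔ sz H b ∈ M)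
    (hform : ∀ (a b : F) (r : Fˣ), su H a b * sh H r ∈ M → a = 0 ∧ b ∈ R) :
    HasTriangle M ∨ ∀ x, x ∈ M ↔ ∃ b : F, x = sz H b := by
  classical
  have hconj : ∀ (T : Fˣ) (v : F), sh H T * sz H ((T : F) ^ (e + 2) * v) * (sh H T)⁻¹ = sz H v :=
    fun T v => by rw [← sz_mul_sh, mul_inv_cancel_right]
  by_cases hRtop : R = ⊤
  · subst hRtop
    by_cases hA : ∃ (d : F) (r : Fˣ), r ≠ 1 ∧ sz H d * sh H r ∈ M
    · obtain ⟨d, r, hr1, hdr⟩ := hA
      left
      have hZ : ∀ b : F, sz H b ∈ M := fun b => (hmemR b).1 trivial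
      have hrM : sh H r ∈ M := (M.mul_mem_cancel_left (hZ d)).1 hdr
      have hw : Moves H (sw H) none (some (0, 0)) := by
        unfold Moves
        simpa [rep, su_zero] using toSL_rep H (some ((0 : F), (0 : F)))
      have hw' : Moves H (sw H) (some (0, 0)) none := by
        have h := Moves.symm H hw
        rwa [inv_eq_of_mul_eq_one_right (sw_sq H)] at h
      have hsw1 : sw H ≠ 1 := fun h => sw_notMem_borel H (h ▸ one_mem _)
      set l := sw H * sh H r with hl
      have hll : l * l = 1 := by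
        rw [hl, show sw H * sh H r * (sw H * sh H r) = sw H * (sh H r * sw H) * sh H r by group, sw_conj,
          ← mul_assoc, sw_sq, one_mul, sh_mul, inv_mul_cancel, sh_one]
      have hl1 : l ≠ 1 := fun h => sw_notMem_borel H (by
        rw [show sw H = l * (sh H r)⁻¹ by rw [hl]; group, h, one_mul]
        exact Subgroup.inv_mem _ (sh_mem_borel H r))
      obtain ⟨g₀, hg₀⟩ := exists_conj_involution H hF (sw_sq H) hsw1
      obtain ⟨g₁, hg₁⟩ := exists_conj_involution H hF hll hl1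
      refine ⟨sh H r, sw H, l, g₀⁻¹, g₁⁻¹, hrM, ?_, ?_, ?_, fun m₁ m₂ hm1 hm1' hm2 hm2' heq => ?_⟩
      · rw [← hg₀, inv_inv, show g₀ * (g₀⁻¹ * sz H 1 * g₀) * g₀⁻¹ = sz H 1 by group]; exact hZ 1
      · rw [← hg₁, inv_inv, show g₁ * (g₁⁻¹ * sz H 1 * g₁) * g₁⁻¹ = sz H 1 by group]; exact hZ 1
      · rw [hl, ← mul_assoc, sw_sq, one_mul]
      obtain ⟨p, hp⟩ := exists_moves H g₀⁻¹ none
      obtain ⟨q, hq⟩ := exists_moves H g₁⁻¹ none
      have hswp : Moves H (sw H) p p := Moves.conj' H hp (borel_moves H (by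
        rw [← hg₀, inv_inv, show g₀ * (g₀⁻¹ * sz H 1 * g₀) * g₀⁻¹ = sz H 1 by group]
        exact su_mem_borel H 0 1))
      have hlq : Moves H l q q := Moves.conj' H hq (borel_moves H (by
        rw [← hg₁, inv_inv, show g₁ * (g₁⁻¹ * sz H 1 * g₁) * g₁⁻¹ = sz H 1 by group]
        exact su_mem_borel H 0 1))
      rcases p with _ | ⟨v, w⟩
      · simpa using Moves.unique H hswp hw
      have hv : v ≠ 0 := by
        rintro rfl
        by_cases hw0 : w = 0
        · subst hw0; simpa using Moves.unique H hswp hw'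
        · have h := Moves.unique H hswp (sw_moves_vertical H hw0)
          simp [hw0] at h
      obtain ⟨a₁, b₁, s, hs⟩ := mem_borel_eq H hM hm1
      obtain ⟨rfl, -⟩ := hform a₁ b₁ s (hs ▸ hm1)
      have hfix : Moves H m₁ (some (v, w)) (some (v, w)) :=
        Moves.conj' H hp (borel_moves H (hM hm1'))
      have h := Moves.unique H hfix (hs ▸ Moves.trans H (toSL_sh_some H s v w) (su_moves H 0 b₁ _ _))
      simp [H.e_ne] at h
      obtain ⟨h1, h2⟩ := h
      have hs1 : s = 1 := by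
        have e1 : ((s⁻¹ : Fˣ) : F) ^ e = 1 ^ e := by
          rw [one_pow]
          refine mul_right_cancel₀ hv ?_
          rw [one_mul]
          simpa [inv_pow] using h1.symm
        exact inv_eq_one.1 (Units.ext (H.pow_inj e1))
      have hb1 : b₁ = 0 := by rw [hs1] at h2; simpa using h2
      rw [hs, hs1, hb1, sh_one, su_zero, mul_one, one_mul] at heq
      subst heq
      have hshq : Moves H (sh H r) q q := Moves.conj' H hq (borel_moves H (hM hm2'))
      have hq' : q = none ∨ q = some (0, 0) := by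
        by_contra hne
        push Not at hne
        exact hr1 (sh_inj H ((eq_one_of_three H (p := none) (q := some (0, 0)) (r := q) (by simp)
          hne.2.symm hne.1.symm (toSL_sh_none H r) (sh_moves_zero H r) hshq).trans (sh_one H).symm))
      rcases hq' with rfl | rfl
      · simpa using Moves.unique H hlq (Moves.trans H (toSL_sh_none H r) hw)
      · simpa using Moves.unique H hlq (Moves.trans H (sh_moves_zero H r) hw')
    · push Not at hA
      refine Or.inr fun x => ⟨fun hx => ?_, ?_⟩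
      · obtain ⟨a, b, r, hx'⟩ := mem_borel_eq H hM hx
        obtain ⟨rfl, -⟩ := hform a b r (hx' ▸ hx)
        have hr : r = 1 := by
          by_contra hr
          exact hA b r hr (hx' ▸ hx)
        exact ⟨b, by rw [hx', hr, sh_one, mul_one]⟩
      · rintro ⟨b, rfl⟩
        exact (hmemR b).1 trivial
  · left
    obtain ⟨lam, mu, hl0, hmu0, x, hx, ⟨a, ha, b, hb, hxab⟩, hno⟩ :=
      exists_nondistributive H.two R hR hRtop
    have hex : ∀ v : F, v ≠ 0 → ∃ T : Fˣ, (T : F) ^ (e + 2) = v := by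
      intro v hv
      obtain ⟨T, hT⟩ := Finite.surjective_of_injective (f := fun x : Fˣ => x ^ (e + 2))
        (fun x y h => pow_e2_inj H x y h) (Units.mk0 v hv)
      exact ⟨T, congrArg Units.val hT⟩
    obtain ⟨T, hT⟩ := hex lam hl0
    obtain ⟨T', hT'⟩ := hex mu hmu0
    refine ⟨sz H x, sz H (lam * a), sz H (mu * b), (sh H T)⁻¹, (sh H T')⁻¹, (hmemR x).1 hx, ?_, ?_, ?_,
      fun m₁ m₂ hm1 hm1' hm2 hm2' heq => ?_⟩
    · rw [inv_inv, ← hT, hconj]; exact (hmemR a).1 ha
    · rw [inv_inv, ← hT', hconj]; exact (hmemR b).1 hb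
    · rw [sz_mul, ← hxab]
    obtain ⟨a₁, b₁, r₁, hm₁⟩ := mem_borel_eq H hM hm1
    obtain ⟨rfl, hb₁⟩ := hform a₁ b₁ r₁ (hm₁ ▸ hm1)
    obtain ⟨a₂, b₂, r₂, hm₂⟩ := mem_borel_eq H hM hm2
    obtain ⟨rfl, hb₂⟩ := hform a₂ b₂ r₂ (hm₂ ▸ hm2)
    have key : ∀ (T : Fˣ) (d : F) (r : Fˣ), sh H T * (sz H d * sh H r) * (sh H T)⁻¹ =
        sz H (((T : F) ^ (e + 2))⁻¹ * d) * sh H r := fun T d r => by
      have hcom : sh H r * (sh H T)⁻¹ = (sh H T)⁻¹ * sh H r := by rw [sh_inv, sh_mul, sh_mul, mul_comm]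
      rw [mul_assoc, mul_assoc (sz H d), hcom, ← mul_assoc (sz H d), ← mul_assoc,
        show sh H T * (sz H d * (sh H T)⁻¹) = sz H (((T : F) ^ (e + 2))⁻¹ * d) from ?_]
      rw [← hconj T (((T : F) ^ (e + 2))⁻¹ * d), mul_inv_cancel_left₀ (pow_ne_zero _ T.ne_zero), mul_assoc]
    rw [inv_inv, hm₁, key] at hm1'
    rw [inv_inv, hm₂, key] at hm2'
    have c1 := (hform _ _ _ hm1').2
    have c2 := (hform _ _ _ hm2').2
    rw [hT] at c1
    rw [hT'] at c2
    -- the torus part of `m₁` lies in `M`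
    have hr₁ : sh H r₁ ∈ M := (M.mul_mem_cancel_left ((hmemR b₁).1 hb₁)).1 (hm₁ ▸ hm1)
    have hscale : ∀ d ∈ R, ((r₁⁻¹ : Fˣ) : F) ^ (e + 2) * d ∈ R := fun d hd => by
      rw [hmemR]
      have h := M.mul_mem (M.mul_mem hr₁ ((hmemR d).1 hd)) (M.inv_mem hr₁)
      rwa [sh_mul_su, mul_zero, mul_inv_cancel_right] at h
    rw [hm₁, hm₂, szsh_mul, ← mul_one (sz H x), ← sh_one H] at heq
    obtain ⟨-, hsum, -⟩ := su_sh_inj H heq
    refine hno b₁ (((r₁⁻¹ : Fˣ) : F) ^ (e + 2) * b₂) hb₁ c1 (hscale _ hb₂) ?_ hsum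
    rw [mul_left_comm]
    exact hscale _ c2

include hm hF he in
/-- A subgroup of the Borel subgroup has a triangle, is trivial, or is the centre of the Sylow
`2`-subgroup. -/
theorem borel_cases {M : Subgroup (Sz F e)} (hM : M ≤ borel H) :
    HasTriangle M ∨ M = ⊥ ∨ ∃ c : Sz F e,
      ∀ x, x ∈ M.map (MulAut.conj c).toMonoidHom ↔ ∃ b : F, x = sz H b := by
  classical
  by_cases hfour : ∃ a b : F, a ≠ 0 ∧ su H a b ∈ M
  · obtain ⟨a, b, ha, hab⟩ := hfour
    exact Or.inl (hasTriangle_four H hm hF he hM ha hab)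
  push Not at hfour
  have hcen : ∀ a b : F, su H a b ∈ M → a = 0 := fun a b h => by
    by_contra ha; exact hfour a b ha h
  by_cases hbot : ∀ b : F, sz H b ∈ M → b = 0
  · by_cases hne : M = ⊥
    · exact Or.inr (Or.inl hne)
    refine Or.inl (hasTriangle_of_odd H hm hF he hne ?_)
    rw [← Nat.not_even_iff_odd]
    intro heven
    haveI := Fact.mk Nat.prime_two
    obtain ⟨t, ht⟩ := exists_prime_orderOf_dvd_card' (G := M) 2 heven.two_dvd
    have htt : (t : Sz F e) ^ 2 = 1 := by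
      rw [← Subgroup.coe_pow, ← ht, pow_orderOf_eq_one, Subgroup.coe_one]
    obtain ⟨a, b, hab⟩ := mem_uni_of_pow_four H (hM t.2)
      (by rw [show (t : Sz F e) ^ 4 = ((t : Sz F e) ^ 2) ^ 2 by rw [← pow_mul], htt, one_pow])
    obtain rfl := hcen a b (by rw [← hab]; exact t.2)
    obtain rfl := hbot b (by show su H 0 b ∈ M; rw [← hab]; exact t.2)
    rw [show t = 1 from Subtype.ext (hab.trans (su_zero H)), orderOf_one] at ht
    omega
  push Not at hbot
  obtain ⟨b₀, hb₀, hb₀0⟩ := hbot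
  -- normalise the torus part
  obtain ⟨c, hc, hnorm⟩ : ∃ c : Sz F e, c ∈ uni H ∧
      ((∀ g ∈ M, g ∈ uni H) ∨ ∃ r : Fˣ, r ≠ 1 ∧ c * sh H r * c⁻¹ ∈ M) := by
    by_cases hall : ∀ g ∈ M, g ∈ uni H
    · exact ⟨1, one_mem _, Or.inl hall⟩
    push Not at hall
    obtain ⟨g, hg, hgu⟩ := hall
    have hg4 : g ^ 4 ≠ 1 := fun h => hgu (mem_uni_of_pow_four H (hM hg) h)
    obtain ⟨q, hq, hqn⟩ : ∃ q, Moves H g q q ∧ q ≠ none := by
      by_contra hall'
      push Not at hall'
      exact hg4 (pow_four_of_unique H (borel_moves H (hM hg)) hall')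
    rcases q with _ | ⟨v, w⟩
    · exact absurd rfl hqn
    have hu0 : Moves H (su H v w) (some (0, 0)) (some (v, w)) := by
      simpa using su_moves H v w 0 0
    obtain ⟨r, hr⟩ := exists_sh_of_moves H
      (Moves.conj H (borel_moves H (su_mem_borel H v w)) (borel_moves H (hM hg))) (Moves.conj H hu0 hq)
    have hg' : su H v w * sh H r * (su H v w)⁻¹ = g := by rw [← hr]; group
    refine ⟨su H v w, ⟨v, w, rfl⟩, Or.inr ⟨r, fun h => ?_, hg'.symm ▸ hg⟩⟩
    rw [h, sh_one, mul_one, mul_inv_cancel] at hg'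
    exact hg4 (by rw [← hg', one_pow])
  set M' := M.map (MulAut.conj c⁻¹).toMonoidHom with hM'def
  have hmem : ∀ g, g ∈ M' ↔ c * g * c⁻¹ ∈ M := fun g => by
    rw [hM'def, Subgroup.mem_map_equiv, MulAut.conj_symm_apply, inv_inv]
  obtain ⟨cv, cw, hcvw⟩ := hc
  have hcb : c ∈ borel H := hcvw ▸ su_mem_borel H cv cw
  have hM' : M' ≤ borel H := fun g hg => by
    have h := (borel H).mul_mem ((borel H).mul_mem ((borel H).inv_mem hcb) (hM ((hmem g).1 hg))) hcb
    rwa [show c⁻¹ * (c * g * c⁻¹) * c = g by group] at h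
  have hzc : ∀ b : F, c * sz H b * c⁻¹ = sz H b := fun b => by
    rw [hcvw, ← sz_mul_su, mul_inv_cancel_right]
  have hcen' : ∀ a b : F, su H a b ∈ M' → a = 0 := fun a b h => by
    rw [hmem, hcvw, su_mul, su_inv, su_mul] at h
    have h' := hcen _ _ h
    linear_combination h' - cv * H.two
  let R : AddSubgroup F :=
    { carrier := {b | sz H b ∈ M'}
      zero_mem' := by show sz H 0 ∈ M'; rw [sz, su_zero]; exact one_mem _
      add_mem' := fun {p q} hp hq => by show sz H (p + q) ∈ M'; rw [← sz_mul]; exact M'.mul_mem hp hq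
      neg_mem' := fun {p} hp => by show sz H (-p) ∈ M'; rwa [H.neg_eq] }
  have hmemR : ∀ b, b ∈ R ↔ sz H b ∈ M' := fun _ => Iff.rfl
  have hR : R ≠ ⊥ := fun h => hb₀0 ((AddSubgroup.eq_bot_iff_forall R).1 h b₀ (by
    rw [hmemR, hmem, hzc]; exact hb₀))
  have hform : ∀ (a b : F) (r : Fˣ), su H a b * sh H r ∈ M' → a = 0 ∧ b ∈ R := by
    rcases hnorm with hall | ⟨r₀, hr₀1, hr₀⟩
    · intro a b r h
      have h4 := pow_four_uni H (hall _ ((hmem _).1 h))
      rw [conj_pow, conj_eq_one_iff] at h4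
      obtain ⟨a', b', he'⟩ := mem_uni_of_pow_four H (hM' h) h4
      have h' := he'.trans (mul_one _).symm
      rw [← sh_one H] at h'
      obtain ⟨rfl, rfl, rfl⟩ := su_sh_inj H h'
      rw [sh_one, mul_one] at h
      obtain rfl := hcen' a b h
      exact ⟨rfl, h⟩
    · intro a b r h
      have hr₀' : sh H r₀ ∈ M' := (hmem _).2 hr₀
      set φ := ((r₀⁻¹ : Fˣ) : F) with hφ
      have hφ1 : φ ≠ 1 := fun h => hr₀1 (inv_eq_one.1 (Units.ext h))
      -- commutator with the torus element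
      have h1 : su H (φ ^ e * a) (φ ^ (e + 2) * b) * (su H a b)⁻¹ ∈ M' := by
        have h2 := M'.mul_mem (M'.mul_mem (M'.mul_mem hr₀' h) (M'.inv_mem hr₀')) (M'.inv_mem h)
        have e1 : sh H r₀ * (su H a b * sh H r) * (sh H r₀)⁻¹ * (su H a b * sh H r)⁻¹ =
            su H (φ ^ e * a) (φ ^ (e + 2) * b) * (su H a b)⁻¹ := by
          rw [← mul_assoc, sh_mul_su, ← hφ, mul_assoc (su H (φ ^ e * a) (φ ^ (e + 2) * b)), sh_mul,
            mul_comm r₀, ← sh_mul]
          group
        rwa [e1] at h2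
      rw [su_inv, su_mul] at h1
      have ha' := hcen' _ _ h1
      have ha : a = 0 := by
        refine (mul_eq_zero.1 (show (φ ^ e + 1) * a = 0 by linear_combination ha')).resolve_left
          fun h => hφ1 (H.pow_inj ?_)
        rw [one_pow]; exact H.eq_of_add h
      refine ⟨ha, ?_⟩
      subst ha
      simp [H.e_ne] at h1
      have hφR : ∀ d : R, φ ^ (e + 2) * (d : F) + d ∈ R := fun ⟨d, hd⟩ => by
        refine R.add_mem ?_ hd
        have h2 := M'.mul_mem (M'.mul_mem hr₀' hd) (M'.inv_mem hr₀')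
        rwa [sh_mul_su, mul_zero, mul_inv_cancel_right, ← hφ] at h2
      have hne : φ ^ (e + 2) + 1 ≠ 0 := fun h => hφ1 (H.eq_one_of_pow_add_two (H.eq_of_add h))
      obtain ⟨⟨d, hd⟩, hde⟩ := Finite.surjective_of_injective (f := fun d : R => (⟨_, hφR d⟩ : R))
        (fun p q h => Subtype.ext (mul_left_cancel₀ hne (by
          have h' : φ ^ (e + 2) * (p : F) + p = φ ^ (e + 2) * q + q := congrArg Subtype.val h
          linear_combination h'))) ⟨φ ^ (e + 2) * b + b, h1⟩
      have h3 : φ ^ (e + 2) * d + d = φ ^ (e + 2) * b + b := congrArg Subtype.val hde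
      obtain rfl : d = b := mul_left_cancel₀ hne (by linear_combination h3)
      exact hd
  rcases cases_central H hm hF he hM' R hR hmemR hform with h | h
  · exact Or.inl (HasTriangle.of_conj c⁻¹ h)
  · exact Or.inr (Or.inr ⟨c⁻¹, h⟩)

end CfsgLib.KnownA.Suzuki.Binary
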