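import Cfsg.Agent.Lib.KnownA.Suzuki.Covering
import Cfsg.Agent.Lib.KnownA.Suzuki.Binary.Basic

/-!
# Triangles for subgroups of odd order and for subgroups of normalisers of tori
-/

set_option autoImplicit false

namespace CfsgLib.KnownA.Suzuki.Binary

open Cfsg.Lie

variable {F : Type*} [Field F] [Fintype F] {e m : ℕ} (H : TitsField F e) (hm : 1 ≤ m)
  (hF : Fintype.card F = 2 ^ (2 * m + 1)) (he : e = 2 ^ (m + 1))

include H

omit [Fintype F] in
theorem sz_one_ne : sz H (1 : F) ≠ 1 := fun h => one_ne_zero (su_inj H (h.trans (su_zero H).symm)).2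

omit [Fintype F] in
theorem sz_one_sq : sz H (1 : F) * sz H 1 = 1 := by
  rw [sz_mul, H.add_self, sz, su_zero]

omit H [Fintype F] in
theorem pow_four_of_sq {g : Sz F e} (h : g * g = 1) : g ^ 4 = 1 := by
  simp only [pow_succ, pow_zero, one_mul, h]

omit H [Fintype F] in
theorem eq_one_of_odd_of_pow_four {g : Sz F e} (ho : Odd (orderOf g)) (h4 : g ^ 4 = 1) : g = 1 :=
  orderOf_eq_one_iff.1 (Nat.eq_one_of_dvd_coprimes
    (Nat.Coprime.pow_right 2 (Nat.coprime_two_right.2 ho)) dvd_rfl (orderOf_dvd_of_pow_eq_one h4))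

omit H [Fintype F] in
theorem two_lt_of_odd [Finite (Sz F e)] {g : Sz F e} (ho : Odd (orderOf g)) (h1 : g ≠ 1) : 2 < orderOf g := by
  have h2 : orderOf g ≠ 1 := fun h => h1 (orderOf_eq_one_iff.1 h)
  have := orderOf_pos g
  obtain ⟨k, hk⟩ := ho
  omega

omit H [Fintype F] in
theorem odd_orderOf_conj {g : Sz F e} (c : Sz F e) (ho : Odd (orderOf g)) :
    Odd (orderOf (c * g * c⁻¹)) := by
  rwa [show c * g * c⁻¹ = MulAut.conj c g from rfl, MulEquiv.orderOf_eq]

/-- An element centralised with the image of a commuting element: normalising a centraliser. -/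
theorem conj_mem_of_centralizer_eq {u w g : Sz F e}
    (hw : Subgroup.centralizer ({w} : Set (Sz F e)) = Subgroup.centralizer ({u} : Set (Sz F e)))
    (hw' : Subgroup.centralizer ({g⁻¹ * w * g} : Set (Sz F e)) =
      Subgroup.centralizer ({u} : Set (Sz F e))) {y : Sz F e}
    (hy : y ∈ Subgroup.centralizer ({u} : Set (Sz F e))) :
    g * y * g⁻¹ ∈ Subgroup.centralizer ({u} : Set (Sz F e)) := by
  rw [← hw]
  rw [← hw', show g⁻¹ * w * g = g⁻¹ * w * g⁻¹⁻¹ by rw [inv_inv], centralizer_conj H,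
    Subgroup.mem_map_equiv, MulAut.conj_symm_apply, inv_inv] at hy
  exact hy

include hm hF he in
/-- A non-trivial subgroup of odd order. -/
theorem hasTriangle_of_odd {M : Subgroup (Sz F e)} (hne : M ≠ ⊥) (hodd : Odd (Nat.card M)) :
    HasTriangle M := by
  classical
  obtain ⟨g₀, hg₀, hle⟩ := le_centralizer_of_odd H hm hF he M hodd hne
  obtain ⟨u, hu, hu1⟩ : ∃ u ∈ M, u ≠ 1 := by
    by_contra h
    push Not at h
    exact hne ((Subgroup.eq_bot_iff_forall _).2 h)
  obtain ⟨hu4, hCu⟩ := centralizer_eq_of_mem' H hF hg₀ (hle hu) hu1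
  have hC : ∀ y ∈ M, y ≠ 1 →
      Subgroup.centralizer ({y} : Set (Sz F e)) = Subgroup.centralizer ({u} : Set (Sz F e)) :=
    fun y hy hy1 => (centralizer_eq_of_mem' H hF hg₀ (hle hy) hy1).2.trans hCu.symm
  have huo : Odd (orderOf u) := (odd_or_pow_four H u).resolve_right hu4
  obtain ⟨a, b, hab⟩ := exists_two_conjugates_of_two_lt H hm hF he (two_lt_of_odd huo hu1) (sz_one_ne H)
  set k := a * u * a⁻¹ with hk
  set l := b * u * b⁻¹ with hl
  have hko : Odd (orderOf k) := odd_orderOf_conj a huo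
  have hlo : Odd (orderOf l) := odd_orderOf_conj b huo
  -- the two factors do not commute
  have hkl : k * l ≠ l * k := by
    intro hc
    have h := Commute.orderOf_mul_dvd_mul_orderOf (show Commute k l from hc)
    refine sz_one_ne H (eq_one_of_odd_of_pow_four (Odd.of_dvd_nat (hko.mul hlo) ?_)
      (pow_four_of_sq (sz_one_sq H)))
    rw [hab]; exact h
  have hk2l : k * k * l ≠ l * (k * k) := by
    intro hc
    obtain ⟨j, hj⟩ := exists_pow_eq_self_of_coprime (x := k) (n := 2) (Nat.coprime_two_left.2 hko)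
    refine hkl ?_
    have h : Commute (k * k) l := hc
    have h' := h.pow_left j
    rwa [show (k * k) ^ j = k by rw [← sq, hj]] at h'
  set x := b⁻¹ * l⁻¹ * b with hx
  have hxu : x = u⁻¹ := by rw [hx, hl]; group
  set g := b⁻¹ * a with hg
  set g' := b⁻¹ * k⁻¹ * b with hg'
  set k' := b⁻¹ * (k * k) * b with hk'
  set l' := b⁻¹ * (k⁻¹ * l * k) * b with hl'
  have hklkl : k * l * (k * l) = 1 := by rw [← hab]; exact sz_one_sq H
  have hxkl : x = k' * l' := by
    have e1 : l⁻¹ = k * l * k := inv_eq_of_mul_eq_one_left (by rw [← hklkl]; group)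
    rw [hx, e1, hk', hl']; group
  have hgk : g⁻¹ * k' * g = u * u := by rw [hg, hk', hk]; group
  have hgl : g'⁻¹ * l' * g' = u := by rw [hg', hl', hl]; group
  -- the first factor is not in the common centraliser
  have hk'C : k' ∉ Subgroup.centralizer ({u} : Set (Sz F e)) := by
    intro h
    rw [Subgroup.mem_centralizer_singleton_iff] at h
    refine hk2l ?_
    have h' := congrArg (fun y => b * y * b⁻¹) h
    have e2 : ∀ y : Sz F e, b * (y * u) * b⁻¹ = (b * y * b⁻¹) * l := fun y => by rw [hl]; group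
    have e3 : ∀ y : Sz F e, b * (u * y) * b⁻¹ = l * (b * y * b⁻¹) := fun y => by rw [hl]; group
    rw [e2, e3, show b * k' * b⁻¹ = k * k by rw [hk']; group] at h'
    exact h'
  refine ⟨x, k', l', g, g', hxu ▸ M.inv_mem hu, hgk ▸ M.mul_mem hu hu, hgl ▸ hu, hxkl,
    fun m₁ m₂ hm1 hm1' hm2 hm2' heq => ?_⟩
  have hm11 : m₁ = 1 := by
    by_contra h
    have := conj_mem_of_centralizer_eq H (hC _ hm1 h) (hC _ hm1' (fun h' => h (by
      have := congrArg (fun y => g * y * g⁻¹) h'
      simpa [mul_assoc] using this))) (y := u * u) (Subgroup.mul_mem _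
        (Subgroup.mem_centralizer_singleton_iff.2 rfl) (Subgroup.mem_centralizer_singleton_iff.2 rfl))
    rw [show g * (u * u) * g⁻¹ = k' by rw [← hgk]; group] at this
    exact hk'C this
  rw [hm11, one_mul] at heq
  subst heq
  have hx1 : x ≠ 1 := by rw [hxu]; exact inv_ne_one.2 hu1
  have hl'C := conj_mem_of_centralizer_eq H (hC _ hm2 hx1) (hC _ hm2' (fun h' => hx1 (by
      have := congrArg (fun y => g' * y * g'⁻¹) h'
      simpa [mul_assoc] using this))) (y := u) (Subgroup.mem_centralizer_singleton_iff.2 rfl)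
  have hl'C' : l' ∈ Subgroup.centralizer ({u} : Set (Sz F e)) := by
    rwa [show g' * u * g'⁻¹ = l' by rw [hl', hg', hl]; group] at hl'C
  refine hk'C ?_
  rw [show k' = x * l'⁻¹ by rw [hxkl]; group, hxu]
  exact Subgroup.mul_mem _ (Subgroup.inv_mem _ (Subgroup.mem_centralizer_singleton_iff.2 rfl))
    (Subgroup.inv_mem _ hl'C')

include hm hF he in
/-- A subgroup of the normaliser of a torus meeting the torus and of even order. -/
theorem hasTriangle_of_normalizer_torus {M U : Subgroup (Sz F e)} (hUc : IsCyclic U)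
    (hU : IsTorusOrder m (Nat.card U)) (hMN : M ≤ Subgroup.normalizer (U : Set (Sz F e)))
    {u : Sz F e} (huM : u ∈ M) (huU : u ∈ U) (hu1 : u ≠ 1) {t : Sz F e} (htM : t ∈ M)
    (htt : t * t = 1) (ht1 : t ≠ 1) : HasTriangle M := by
  classical
  letI := hUc.commGroup
  have hUodd : ∀ y ∈ U, y ^ 4 = 1 → y = 1 := fun y hy h4 => by
    by_contra h
    exact (torus_eq_centralizer H hm hF he hUc hU hy h).1 h4
  have huo : Odd (orderOf u) :=
    (odd_or_pow_four H u).resolve_right (fun h => hu1 (hUodd u huU h))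
  have hinv : ∀ i ∈ M, i * i = 1 → i ≠ 1 → ∀ c ∈ U, i * c * i⁻¹ = c⁻¹ := fun i hi hii hi1 c hc =>
    involution_inverts H hm hF he hUc hU (hMN hi) hii hi1 hc
  have hoddU : ∀ y ∈ M, Odd (orderOf y) → y ∈ U := fun y hy ho =>
    mem_torus_of_odd H hm hF he hUc hU (hMN hy) ho
  -- an odd element in two conjugates forces the same torus
  have hsame : ∀ (g w : Sz F e), w ∈ M → g⁻¹ * w * g ∈ M → Odd (orderOf w) → w ≠ 1 →
      ∀ y ∈ Subgroup.normalizer (U : Set (Sz F e)),
        g * y * g⁻¹ ∈ Subgroup.normalizer (U : Set (Sz F e)) := by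
    intro g w hw hw' ho hw1 y hy
    have ho' : Odd (orderOf (g⁻¹ * w * g)) := by simpa using odd_orderOf_conj g⁻¹ ho
    have hw1' : g⁻¹ * w * g ≠ 1 := fun h => hw1 (by
      have := congrArg (fun y => g * y * g⁻¹) h
      simpa [mul_assoc] using this)
    have h1 := (torus_eq_centralizer H hm hF he hUc hU (hoddU w hw ho) hw1).2
    have h2 := (torus_eq_centralizer H hm hF he hUc hU (hoddU _ hw' ho') hw1').2
    rw [show g⁻¹ * w * g = g⁻¹ * w * g⁻¹⁻¹ by rw [inv_inv], centralizer_conj H, h1] at h2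
    have hgN : g⁻¹ ∈ Subgroup.normalizer (U : Set (Sz F e)) := by
      rw [Subgroup.mem_normalizer_iff]
      intro z
      conv_rhs => rw [← h2]
      exact ⟨fun hz => ⟨z, hz, rfl⟩, fun ⟨z', hz', he'⟩ => by rwa [← (MulAut.conj g⁻¹).injective he']⟩
    exact Subgroup.mul_mem _ (Subgroup.mul_mem _ (by simpa using Subgroup.inv_mem _ hgN) hy)
      (by simpa using hgN)
  -- involutions of the intersections invert the conjugated torus elements
  have hinv' : ∀ (g i : Sz F e), i * i = 1 → i ≠ 1 → g⁻¹ * i * g ∈ M → ∀ c ∈ U,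
      i * (g * c * g⁻¹) * i⁻¹ = (g * c * g⁻¹)⁻¹ := by
    intro g i hii hi1 hiM c hc
    have h := hinv _ hiM (by
      rw [show g⁻¹ * i * g * (g⁻¹ * i * g) = g⁻¹ * (i * i) * g by group, hii]; simp)
      (fun h => hi1 (by
        have := congrArg (fun y => g * y * g⁻¹) h
        simpa [mul_assoc] using this)) c hc
    have := congrArg (fun y => g * y * g⁻¹) h
    rw [show (g * c * g⁻¹)⁻¹ = g * c⁻¹ * g⁻¹ by group]
    rw [← this]; group
  by_cases hfour : ∃ s ∈ M, s ^ 4 = 1 ∧ s * s ≠ 1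
  · obtain ⟨s, hsM, hs4, hs2⟩ := hfour
    have hs1 : s ≠ 1 := fun h => hs2 (by rw [h, one_mul])
    obtain ⟨a, b, hab⟩ := exists_two_conjugates_of_two_lt H hm hF he (two_lt_of_odd huo hu1) hs1
    set g := a⁻¹ with hg
    set g' := a⁻¹ * b with hg'
    set k := g * s * g⁻¹ with hk
    set l := g' * u⁻¹ * g'⁻¹ with hl
    have hukl : u = k * l := by rw [hk, hl, hg', hab, hg]; group
    have hgk : g⁻¹ * k * g = s := by rw [hk]; group
    have hgl : g'⁻¹ * l * g' = u⁻¹ := by rw [hl]; group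
    have hlo : Odd (orderOf l) := odd_orderOf_conj g' (by rwa [orderOf_inv])
    have hk4 : k ^ 4 = 1 := by rw [hk, conj_pow, hs4]; simp
    have hk1 : k ≠ 1 := fun h => hs1 (conj_eq_one_iff.1 h)
    have hkU : k ∉ U := fun h => hk1 (hUodd k h hk4)
    have hkN : k ∉ Subgroup.normalizer (U : Set (Sz F e)) := by
      intro hN
      refine hkU ?_
      have hlU : l ∈ U := mem_torus_of_odd H hm hF he hUc hU
        (show l ∈ _ by
          rw [show l = k⁻¹ * u by rw [hukl]; group]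
          exact Subgroup.mul_mem _ (Subgroup.inv_mem _ hN) (Subgroup.le_normalizer huU)) hlo
      rw [show k = u * l⁻¹ by rw [hukl]; group]
      exact U.mul_mem huU (U.inv_mem hlU)
    refine ⟨u, k, l, g, g', huM, hgk ▸ hsM, hgl ▸ M.inv_mem huM, hukl,
      fun m₁ m₂ hm1 hm1' hm2 hm2' heq => ?_⟩
    by_cases hm21 : m₂ = 1
    · rw [hm21, mul_one] at heq
      subst heq
      exact hkN (hsame g _ hm1 hm1' huo hu1 s (hMN hsM))
    rcases odd_or_pow_four H m₂ with ho | h4
    · have := hsame g' m₂ hm2 hm2' ho hm21 u⁻¹ (Subgroup.le_normalizer (U.inv_mem huU))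
      refine hkN ?_
      rw [show k = u * l⁻¹ by rw [hukl]; group]
      exact Subgroup.mul_mem _ (Subgroup.le_normalizer huU) (Subgroup.inv_mem _ this)
    · obtain ⟨i, hiM, hiM', hii, hi1⟩ :
          ∃ i, i ∈ M ∧ g'⁻¹ * i * g' ∈ M ∧ i * i = 1 ∧ i ≠ 1 := by
        by_cases h2 : m₂ * m₂ = 1
        · exact ⟨m₂, hm2, hm2', h2, hm21⟩
        · refine ⟨m₂ * m₂, M.mul_mem hm2 hm2, ?_, ?_, h2⟩
          · rw [show g'⁻¹ * (m₂ * m₂) * g' = g'⁻¹ * m₂ * g' * (g'⁻¹ * m₂ * g') by group]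
            exact M.mul_mem hm2' hm2'
          · rw [← h4]; simp [pow_succ, mul_assoc]
      have h1 : i * u * i⁻¹ = u⁻¹ := hinv i hiM hii hi1 u huU
      have h2 : i * l * i⁻¹ = l⁻¹ := hinv' g' i hii hi1 hiM' _ (U.inv_mem huU)
      have h3 : (l * i) * k * (l * i)⁻¹ = k⁻¹ := by
        rw [show (l * i) * k * (l * i)⁻¹ = l * (i * u * i⁻¹) * (i * l * i⁻¹)⁻¹ * l⁻¹ by
            rw [hukl]; group, h1, h2, hukl]
        group
      obtain ⟨P, hP⟩ := exists_sylow_mem H hF hk4
      have h5 := (isConj_inv_iff H hF P hP hk1).1 (isConj_iff.2 ⟨_, h3⟩)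
      have hk2 : k * k = 1 := by
        rw [← sq, ← h5, pow_orderOf_eq_one]
      refine hs2 ?_
      rw [← hgk, show g⁻¹ * k * g * (g⁻¹ * k * g) = g⁻¹ * (k * k) * g by group, hk2]
      simp
  · push Not at hfour
    obtain ⟨a, b, hab⟩ := exists_two_conjugates_of_two_lt H hm hF he (two_lt_of_odd huo hu1) ht1
    set k := a * u * a⁻¹ with hk
    set l := b * u * b⁻¹ with hl
    have hko : Odd (orderOf k) := odd_orderOf_conj a huo
    have hlo : Odd (orderOf l) := odd_orderOf_conj b huo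
    have hk1 : k ≠ 1 := fun h => hu1 (conj_eq_one_iff.1 h)
    have hl1 : l ≠ 1 := fun h => hu1 (conj_eq_one_iff.1 h)
    refine ⟨t, k, l, a, b, htM, by rw [hk]; simpa [mul_assoc] using huM,
      by rw [hl]; simpa [mul_assoc] using huM, hab, fun m₁ m₂ hm1 hm1' hm2 hm2' heq => ?_⟩
    have htN : t ∈ Subgroup.normalizer (U : Set (Sz F e)) := hMN htM
    have htU : t ∉ U := fun h => ht1 (hUodd t h (pow_four_of_sq htt))
    have hk_notN : k ∉ Subgroup.normalizer (U : Set (Sz F e)) := fun hN => htU (by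
      have hkU := mem_torus_of_odd H hm hF he hUc hU hN hko
      have hlU := mem_torus_of_odd H hm hF he hUc hU (show l ∈ _ by
        rw [show l = k⁻¹ * t by rw [hab]; group]
        exact Subgroup.mul_mem _ (Subgroup.inv_mem _ hN) htN) hlo
      rw [hab]; exact U.mul_mem hkU hlU)
    have hl_notN : l ∉ Subgroup.normalizer (U : Set (Sz F e)) := fun hN => hk_notN (by
      rw [show k = t * l⁻¹ by rw [hab]; group]
      exact Subgroup.mul_mem _ htN (Subgroup.inv_mem _ hN))
    have huN : u ∈ Subgroup.normalizer (U : Set (Sz F e)) := Subgroup.le_normalizer huU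
    have h12 : ∀ m ∈ M, a⁻¹ * m * a ∈ M ∨ b⁻¹ * m * b ∈ M → m * m = 1 := by
      intro m hmM hm'
      rcases odd_or_pow_four H m with ho | h4
      · by_contra hne
        have hm1 : m ≠ 1 := fun h => hne (by rw [h, one_mul])
        rcases hm' with hm' | hm'
        · exact hk_notN (hsame a m hmM hm' ho hm1 u huN)
        · exact hl_notN (hsame b m hmM hm' ho hm1 u huN)
      · exact hfour m hmM h4
    have e1 := h12 m₁ hm1 (Or.inl hm1')
    have e2 := h12 m₂ hm2 (Or.inr hm2')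
    by_cases hm11 : m₁ = 1
    · -- `t` inverts the second factor, so the first is an involution
      rw [hm11, one_mul] at heq
      subst heq
      have h : m₂ * l * m₂⁻¹ = l⁻¹ := hinv' b _ htt ht1 hm2' u huU
      refine hk1 (eq_one_of_odd_of_pow_four hko (pow_four_of_sq ?_))
      have hti : m₂⁻¹ = m₂ := inv_eq_of_mul_eq_one_right htt
      calc k * k = m₂ * l⁻¹ * (m₂⁻¹ * l⁻¹) := by
            rw [hti, show m₂ * l⁻¹ = k by rw [hab]; group]
        _ = (m₂ * l * m₂⁻¹)⁻¹ * l⁻¹ := by group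
        _ = 1 := by rw [h]; group
    by_cases hm21 : m₂ = 1
    · rw [hm21, mul_one] at heq
      subst heq
      have h : m₁ * k * m₁⁻¹ = k⁻¹ := hinv' a _ htt ht1 hm1' u huU
      refine hl1 (eq_one_of_odd_of_pow_four hlo (pow_four_of_sq ?_))
      have hti : m₁⁻¹ = m₁ := inv_eq_of_mul_eq_one_right htt
      calc l * l = k⁻¹ * m₁ * (k⁻¹ * m₁⁻¹) := by
            rw [hti, show k⁻¹ * m₁ = l by rw [hab]; group]
        _ = k⁻¹ * (m₁ * k * m₁⁻¹)⁻¹ := by group
        _ = 1 := by rw [h]; group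
    have i1 := hinv m₁ hm1 e1 hm11 u huU
    have i2 := hinv m₂ hm2 e2 hm21 u huU
    have i3 := hinv t htM htt ht1 u huU
    have hu' : t * u * t⁻¹ = u := by
      rw [← heq, show m₁ * m₂ * u * (m₁ * m₂)⁻¹ = m₁ * (m₂ * u * m₂⁻¹) * m₁⁻¹ by group, i2,
        show m₁ * u⁻¹ * m₁⁻¹ = (m₁ * u * m₁⁻¹)⁻¹ by group, i1, inv_inv]
    rw [i3] at hu'
    exact hu1 (eq_one_of_odd_of_pow_four huo (pow_four_of_sq (inv_eq_iff_mul_eq_one.1 hu')))

end CfsgLib.KnownA.Suzuki.Binary
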