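import Cfsg.Agent.Lib.KnownA.Suzuki.Real
import Cfsg.Agent.Lib.KnownA.Suzuki.Classes
import Cfsg.Agent.Lib.KnownA.Suzuki.Binary.Torus

/-!
# A triangle for a subgroup of a Borel subgroup containing an element of order four

An element `y` of order four fixing `∞` is a product `k * t` of an element of order four and an
involution with three different fixed points.
-/

set_option autoImplicit false

namespace CfsgLib.KnownA.Suzuki.Binary

open Matrix Cfsg.Lie

variable {F : Type*} [Field F] [Fintype F] {e m : ℕ} (H : TitsField F e) (hm : 1 ≤ m)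
  (hF : Fintype.card F = 2 ^ (2 * m + 1)) (he : e = 2 ^ (m + 1))

include H

omit [Fintype F] in
theorem mem_uni_of_pow_four {g : Sz F e} (hg : g ∈ borel H) (h4 : g ^ 4 = 1) : g ∈ uni H := by
  obtain ⟨a, b, t, rfl⟩ := hg
  refine ⟨a, b, ?_⟩
  have h : (t : F) ^ 4 = 1 := by
    have := congrArg (fun y => mat y 1 1) h4
    simpa [pow_succ, mat, su, sh, uGL, hGL, uMat, hMat, Matrix.mul_apply, Fin.sum_univ_four] using this
  have h2 : ((t : F) ^ 2) ^ 2 = (1 : F) ^ 2 := by rw [← pow_mul, one_pow]; exact h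
  have ht : t = 1 := Units.ext (H.sq_inj ((H.sq_inj h2).trans (one_pow 2).symm))
  rw [ht, sh_one, mul_one]

omit [Fintype F] in
/-- The form of an ovoid point against the origin. -/
theorem fv_ne_zero {a b : F} (h : ¬(a = 0 ∧ b = 0)) : fv e a b ≠ 0 := by
  intro hf
  obtain ⟨p, c, hc, hp⟩ := exists_point H (sw H * su H a b * sw H)
  have h0 := hp 0
  have h1 := hp 1
  have h2 := hp 2
  simp [mat, sw, su, wGL, uGL, wMat, uMat, Matrix.mul_apply, Fin.sum_univ_four] at h0 h1 h2
  rcases p with _ | ⟨x, y⟩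
  · simp [pv] at h1 h2
    exact h ⟨h2, h1⟩
  · simp [pv] at h0
    exact hc (h0.symm.trans hf)

include hF in
/-- An element of order four is conjugate to any other one or to its inverse. -/
theorem conj_or_conj_inv {a b c d : F} (ha : a ≠ 0) (hc : c ≠ 0) :
    IsConj (su H c d) (su H a b) ∨ IsConj (su H c d) (su H a b)⁻¹ := by
  classical
  obtain ⟨T, hT⟩ := Finite.surjective_of_injective (f := fun x : Fˣ => x ^ e)
    (fun x y h => pow_e_inj H x y h) (Units.mk0 (a / c) (div_ne_zero ha hc))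
  have hTc : (T : F) ^ e * c = a := by
    have := congrArg Units.val hT
    simp at this
    rw [this, div_mul_cancel₀ _ hc]
  set d' := (T : F) ^ (e + 2) * d with hd'
  have h1 : IsConj (su H c d) (su H a d') := isConj_iff.2 ⟨(sh H T)⁻¹, by
    rw [inv_inv, mul_assoc, sh_conj, inv_mul_cancel_left, hTc]⟩
  let P : F →+ F := AddMonoidHom.mk' (fun v => comForm e v a) fun v w => by
    simp only [comForm, H.add_pow]; ring
  have hP : ∀ v, P v = comForm e v a := fun _ => rfl
  have hconj : ∀ b₁ b₂ : F, b₂ - b₁ ∈ P.range → IsConj (su H a b₁) (su H a b₂) := fun b₁ b₂ ⟨v, hv⟩ =>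
    isConj_iff.2 ⟨su H v 0, by rw [su_conj H hF, ← hP, hv, add_sub_cancel]⟩
  have hC : a ^ e * a ∉ P.range := by
    intro hr
    obtain ⟨k, hk⟩ := isConj_iff.1 (hconj b (b + a ^ e * a) (by rwa [add_sub_cancel_left]))
    exact not_conj_inv H hF ha k (by rw [hk, su_inv])
  have hker : Nat.card P.ker ≤ 2 := by
    have hsub : (P.ker : Set F) ⊆ {0, a} := by
      intro v hv
      have hv' : v ^ e * a + a ^ e * v = 0 := hv
      obtain ⟨r, rfl⟩ : ∃ r, r * a = v := ⟨v / a, div_mul_cancel₀ _ ha⟩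
      rw [mul_pow] at hv'
      have h3 : (r ^ e + r) * (a ^ e * a) = 0 := by linear_combination hv'
      have hre : r ^ e = r :=
        H.eq_of_add ((mul_eq_zero.1 h3).resolve_right (mul_ne_zero (pow_ne_zero _ ha) ha))
      have hr2 : r * (r - 1) = 0 := by
        have : r ^ 2 = r := by rw [← H.sq r, hre, hre]
        linear_combination this
      rcases mul_eq_zero.1 hr2 with h4 | h4
      · simp [h4]
      · simp [sub_eq_zero.1 h4]
    show Nat.card (P.ker : Set F) ≤ 2
    rw [Nat.card_coe_set_eq]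
    exact (Set.ncard_le_ncard hsub).trans ((Set.ncard_insert_le _ _).trans (by simp))
  have hidx : P.range.index = 2 := by
    have e1 : P.ker.index = Nat.card P.range := AddSubgroup.index_ker P
    have e2 := P.ker.card_mul_index
    rw [e1] at e2
    have e3 := P.range.card_mul_index
    rw [← e2, mul_comm (Nat.card P.ker)] at e3
    have e4 : P.range.index = Nat.card P.ker := Nat.eq_of_mul_eq_mul_left Nat.card_pos e3
    have h1 : P.range.index ≠ 1 := fun h => hC (by rw [AddSubgroup.index_eq_one.1 h]; trivial)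
    have h2 : 0 < Nat.card P.ker := Nat.card_pos
    omega
  by_cases hmem : b - d' ∈ P.range
  · exact Or.inl (h1.trans (hconj _ _ hmem))
  · refine Or.inr (h1.trans ?_)
    rw [su_inv]
    refine hconj _ _ ?_
    rw [show b + a ^ e * a - d' = (b - d') + a ^ e * a by ring,
      AddSubgroup.add_mem_iff_of_index_two hidx]
    exact ⟨fun h => absurd h hmem, fun h => absurd h hC⟩

omit [Fintype F] in
/-- The eigenvalues of an isometry on two ovoid vectors with non-zero product multiply to one. -/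
theorem eigen_mul_eigen (g : Sz F e) {v w : Fin 4 → F} {lv lw : F} (hv : mat g *ᵥ v = lv • v)
    (hw : mat g *ᵥ w = lw • w) (hvw : altForm4 v w ≠ 0) : lv * lw = 1 := by
  have h : altForm4 (mat g *ᵥ v) (mat g *ᵥ w) = altForm4 v w := (mem_eqs H g).1 v w
  rw [hv, hw] at h
  have e1 : altForm4 (lv • v) (lw • w) = lv * lw * altForm4 v w := by
    simp [altForm4]; ring
  rw [e1] at h
  exact (mul_eq_right₀ hvw).1 h

include hm hF he in
/-- A subgroup of the Borel subgroup with an element of order four. -/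
theorem hasTriangle_four {M : Subgroup (Sz F e)} (hM : M ≤ borel H) {a b : F} (ha : a ≠ 0)
    (hy : su H a b ∈ M) : HasTriangle M := by
  classical
  have h2 := H.two
  obtain ⟨j, hj⟩ := H.two_pow
  have he1 : 1 ≤ e := hj ▸ Nat.one_le_two_pow
  set f := fv e a b with hf
  have hf0 : f ≠ 0 := fv_ne_zero H (fun h => ha h.1)
  obtain ⟨D, hD⟩ := Finite.surjective_of_injective (f := fun x : Fˣ => x ^ (e - 1))
    (fun x y h => by
      simp only at h
      have h' : (x * y⁻¹) ^ (e - 1) = 1 := by rw [mul_pow, h, ← mul_pow, mul_inv_cancel, one_pow]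
      set z := x * y⁻¹
      have hz : z ^ e = z := by
        rw [show e = e - 1 + 1 by omega, pow_succ, h', one_mul]
      have hz2 : (z : F) ^ 2 = (z : F) := by
        rw [← H.sq, ← Units.val_pow_eq_pow_val, hz, ← Units.val_pow_eq_pow_val, hz]
      have hz1 : (z : F) = 1 := mul_left_cancel₀ z.ne_zero (by rw [mul_one, ← sq]; exact hz2)
      exact mul_inv_eq_one.1 (Units.ext hz1))
    (Units.mk0 (a ^ (e + 1) / f) (div_ne_zero (pow_ne_zero _ ha) hf0))
  set δ : F := (D : F) with hδdef
  have hδ0 : δ ≠ 0 := D.ne_zero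
  have hδ : f * δ ^ e = a ^ (e + 1) * δ := by
    have := congrArg Units.val hD
    simp at this
    rw [show δ ^ e = δ ^ (e - 1) * δ by rw [← pow_succ, Nat.sub_add_cancel he1], this]
    field_simp
  set y := su H a b with hydef
  set t := sw H * sz H δ * sw H with htdef
  have htt : t * t = 1 := by
    rw [htdef, show sw H * sz H δ * sw H * (sw H * sz H δ * sw H) =
      sw H * (sz H δ * (sw H * sw H) * sz H δ) * sw H by group, sw_sq, mul_one, sz_mul, H.add_self,
      sz, su_zero, mul_one, sw_sq]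
  have hti : t⁻¹ = t := inv_eq_of_mul_eq_one_right htt
  have ht0 : Moves H t (some (0, 0)) (some (0, 0)) := by
    have hw : Moves H (sw H) none (some (0, 0)) := by
      unfold Moves
      simpa [rep, su_zero] using toSL_rep H (some ((0 : F), (0 : F)))
    have hw' : Moves H (sw H) (some (0, 0)) none := by
      have h := Moves.symm H hw
      rwa [inv_eq_of_mul_eq_one_right (sw_sq H)] at h
    exact Moves.trans H hw' (Moves.trans H (borel_moves H (su_mem_borel H 0 δ)) hw)
  have ht1 : t ≠ 1 := by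
    intro h
    have h' : sz H δ = 1 := by
      have := congrArg (fun z => sw H * z * sw H) h
      rwa [htdef, show sw H * (sw H * sz H δ * sw H) * sw H = (sw H * sw H) * sz H δ * (sw H * sw H) by
        group, sw_sq, one_mul, mul_one, mul_one, sw_sq] at this
    exact hδ0 (su_inj H (h'.trans (su_zero H).symm)).2
  have ht_none : ¬ Moves H t none none := fun h => by
    obtain ⟨p, -, hp⟩ := exists_unique_fixed H hF (pow_four_of_sq htt) ht1
    simpa using (hp _ h).trans (hp _ ht0).symm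
  have hy4 : y ^ 4 = 1 := pow_four_uni H ⟨a, b, rfl⟩
  have hy1 : y ≠ 1 := fun h => ha (su_inj H (h.trans (su_zero H).symm)).1
  have hy2 : y * y ≠ 1 := fun h => by
    rw [hydef, su_mul, H.add_self, H.add_self, zero_add] at h
    exact mul_ne_zero (pow_ne_zero _ ha) ha (su_inj H (h.trans (su_zero H).symm)).2
  have hy_fix : Moves H y none none := borel_moves H (hM hy)
  set k := y * t with hkdef
  have hykt : y = k * t := by rw [hkdef, mul_assoc, htt, mul_one]
  have hk4 : k ^ 4 = 1 := by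
    refine pow_four_of_tr H ?_
    show (mat k).trace = 0
    simp [hkdef, htdef, hydef, mat, sw, su, wGL, uGL, wMat, uMat, Matrix.trace, Matrix.mul_apply,
      Fin.sum_univ_four, fv, H.e_ne]
    rw [hf, fv, pow_succ] at hδ
    linear_combination hδ + (2 + a ^ (e + 1) * δ + b * δ) * h2
  have hk1 : k ≠ 1 := fun h => ht_none (by
    rw [show t = y⁻¹ * k by rw [hkdef]; group, h, mul_one]
    exact Moves.symm H hy_fix)
  have hk2 : k * k ≠ 1 := fun h => by
    refine not_conj_inv H hF (b := b) ha t ?_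
    rw [← hydef, hti]
    refine eq_inv_of_mul_eq_one_left ?_
    calc t * y * t * y = t * (y * t * (y * t)) * t := by simp [mul_assoc, htt]
      _ = 1 := by rw [← hkdef, h, mul_one, htt]
  -- the first factor is conjugate into `M`
  obtain ⟨c, d, hcd⟩ := exists_isConj_su H hF hk4
  have hc0 : c ≠ 0 := fun hc => hk2 (by
    obtain ⟨l, hl⟩ := isConj_iff.1 hcd
    have : l * (k * k) * l⁻¹ = 1 := by
      rw [show l * (k * k) * l⁻¹ = (l * k * l⁻¹) * (l * k * l⁻¹) by group, hl, hc, sz_mul, H.add_self,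
        sz, su_zero]
    exact conj_eq_one_iff.1 this)
  obtain ⟨g, hg⟩ : ∃ g : Sz F e, g⁻¹ * k * g ∈ M := by
    rcases conj_or_conj_inv H hF ha hc0 with h | h
    · obtain ⟨l, hl⟩ := isConj_iff.1 (hcd.trans h)
      exact ⟨l⁻¹, by rw [inv_inv, hl]; exact hy⟩
    · obtain ⟨l, hl⟩ := isConj_iff.1 (hcd.trans h)
      exact ⟨l⁻¹, by rw [inv_inv, hl]; exact M.inv_mem hy⟩
  obtain ⟨g', hg'⟩ : ∃ g' : Sz F e, g'⁻¹ * t * g' ∈ M := by
    obtain ⟨l₁, hl₁⟩ := exists_conj_involution H hF htt ht1
    obtain ⟨l₂, hl₂⟩ := exists_conj_involution H hF (w := y * y)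
      (by rw [← hy4]; simp [pow_succ, mul_assoc]) hy2
    refine ⟨l₁⁻¹ * l₂, ?_⟩
    rw [show (l₁⁻¹ * l₂)⁻¹ * t * (l₁⁻¹ * l₂) = l₂⁻¹ * (l₁ * t * l₁⁻¹) * l₂ by group, ← hl₁,
      show l₁ * (l₁⁻¹ * sz H 1 * l₁) * l₁⁻¹ = sz H 1 by group, hl₂]
    exact M.mul_mem hy hy
  obtain ⟨p, hp⟩ := exists_moves H g none
  obtain ⟨q, hq⟩ := exists_moves H g' none
  have hpfix : ∀ z : Sz F e, g⁻¹ * z * g ∈ M → Moves H z p p := fun z hz =>
    Moves.conj' H hp (borel_moves H (hM hz))
  have hqfix : ∀ z : Sz F e, g'⁻¹ * z * g' ∈ M → Moves H z q q := fun z hz =>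
    Moves.conj' H hq (borel_moves H (hM hz))
  have hq0 : q = some (0, 0) := by
    obtain ⟨r, -, hr⟩ := exists_unique_fixed H hF (pow_four_of_sq htt) ht1
    exact (hr _ (hqfix t hg')).trans (hr _ ht0).symm
  subst hq0
  have hkp : Moves H k p p := hpfix k hg
  rcases p with _ | ⟨v, w⟩
  · exfalso
    refine ht_none ?_
    rw [show t = y⁻¹ * k by rw [hkdef]; group]
    exact Moves.trans H hkp (Moves.symm H hy_fix)
  have hvw : ¬(v = 0 ∧ w = 0) := by
    rintro ⟨rfl, rfl⟩
    have hy0 : Moves H y (some (0, 0)) (some (0, 0)) := by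
      rw [hykt]; exact Moves.trans H ht0 hkp
    simpa using su_unique_fixed H hF hy1 hy0
  refine ⟨y, k, t, g, g', hy, hg, hg', hykt, fun m₁ m₂ hm1 hm1' hm2 hm2' heq => ?_⟩
  obtain ⟨r, hr⟩ := exists_sh_of_moves H (borel_moves H (hM hm2)) (hqfix m₂ hm2')
  set u := su H v w with hu
  have hu0 : Moves H u (some (0, 0)) (some (v, w)) := by
    simpa [hu] using su_moves H v w 0 0
  have hun : Moves H u none none := borel_moves H (su_mem_borel H v w)
  obtain ⟨s, hs⟩ := exists_sh_of_moves H (Moves.conj H hun (borel_moves H (hM hm1)))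
    (Moves.conj H hu0 (hpfix m₁ hm1'))
  have hm1eq : m₁ = u * sh H s * u⁻¹ := by rw [← hs]; group
  set k' := u⁻¹ * k * u with hk'
  obtain ⟨c', d', hk'u⟩ : sw H * k' * sw H ∈ uni H := by
    have hw : Moves H (sw H) none (some (0, 0)) := by
      unfold Moves
      simpa [rep, su_zero] using toSL_rep H (some ((0 : F), (0 : F)))
    refine mem_uni_of_pow_four H (mem_borel_of_moves H ?_) ?_
    · have h := Moves.conj H hw (Moves.conj H hu0 hkp)
      rwa [inv_eq_of_mul_eq_one_right (sw_sq H)] at h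
    · have e1 : sw H * k' * sw H = sw H * k' * (sw H)⁻¹ := by
        rw [inv_eq_of_mul_eq_one_right (sw_sq H)]
      rw [e1, conj_pow, hk', show u⁻¹ * k * u = u⁻¹ * k * u⁻¹⁻¹ by rw [inv_inv], conj_pow, hk4]
      simp
  have hk'eq : k' = sw H * su H c' d' * sw H := by
    rw [← hk'u, show sw H * (sw H * k' * sw H) * sw H = (sw H * sw H) * k' * (sw H * sw H) by group,
      sw_sq, one_mul, mul_one]
  -- the diagonal gives `r = s⁻¹`
  have hrs : (s : F) * r = 1 := by
    have h := congrArg (fun z => mat z 1 1) heq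
    rw [hm1eq, hu, su_inv, hr, hydef] at h
    simpa [mat, su, sh, uGL, hGL, uMat, hMat, Matrix.mul_apply, Fin.sum_univ_four] using h
  set τ := m₂ * t with hτ
  have hτ' : τ = u * sh H s⁻¹ * k' * u⁻¹ := by
    rw [← sh_inv, hk', show u * (sh H s)⁻¹ * (u⁻¹ * k * u) * u⁻¹ = (u * sh H s * u⁻¹)⁻¹ * k by group,
      ← hm1eq, hkdef, hτ, ← heq]
    group
  have hsr : ((s⁻¹ : Fˣ) : F) = r := by
    rw [Units.val_inv_eq_inv_val]; exact inv_eq_of_mul_eq_one_right hrs
  have e1 : mat τ *ᵥ ![1, 0, 0, 0] = ((r : F) ^ (e + 1)) • ![1, 0, 0, 0] := by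
    rw [hτ, hr, htdef]
    funext i
    fin_cases i <;>
      simp [mat, sw, su, sh, wGL, uGL, hGL, wMat, uMat, hMat, Matrix.mulVec, dotProduct,
        Matrix.mul_apply, Fin.sum_univ_four, fv, H.e_ne]
  have e2 : mat τ *ᵥ ![1, v, w, fv e v w] = ((r : F) ^ (e + 1)) • ![1, v, w, fv e v w] := by
    have hcol : ![1, v, w, fv e v w] = mat u *ᵥ ![1, 0, 0, 0] := by
      funext i
      fin_cases i <;> simp [hu, mat, su, uGL, uMat, Matrix.mulVec, dotProduct, Fin.sum_univ_four]
    have hin : mat (sh H s⁻¹ * k') *ᵥ ![1, 0, 0, 0] = ((r : F) ^ (e + 1)) • ![1, 0, 0, 0] := by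
      rw [hk'eq]
      funext i
      fin_cases i <;>
        simp [mat, sw, su, sh, wGL, uGL, hGL, wMat, uMat, hMat, Matrix.mulVec, dotProduct,
          Matrix.mul_apply, Fin.sum_univ_four, ← hsr]
    rw [hcol, Matrix.mulVec_mulVec, ← mat_mul, hτ', inv_mul_cancel_right, mul_assoc, mat_mul,
      ← Matrix.mulVec_mulVec, hin, Matrix.mulVec_smul]
  have h := eigen_mul_eigen H τ e1 e2 (by
    simpa [altForm4] using fv_ne_zero H hvw)
  have hr1 : r = 1 := Units.ext (H.eq_one_of_pow_succ (H.sq_inj (by rw [one_pow, sq]; exact h)))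
  rw [hr, hr1, sh_one, mul_one] at heq
  subst heq
  have := su_unique_fixed H hF hy1 (q := some (v, w)) (hpfix _ hm1')
  simp at this

end CfsgLib.KnownA.Suzuki.Binary
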