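import Cfsg.Agent.Lib.KnownA.Suzuki.SubfieldConj
import Cfsg.Agent.Lib.KnownA.Suzuki.Binary.Basic

/-!
# A triangle for a subfield subgroup
-/

set_option autoImplicit false

namespace CfsgLib.KnownA.Suzuki.Binary

open Matrix Cfsg.Lie

variable {F : Type*} [Field F] [Fintype F] {e : ℕ} (H : TitsField F e)

include H

omit [Fintype F] in
theorem mat_mem_of_subGen {K : _root_.Subfield F} {g : Sz F e} (hg : g ∈ subGen H K) (i j : Fin 4) :
    mat g i j ∈ K := by
  rw [subGen_eq_range] at hg
  obtain ⟨g', rfl⟩ := hg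
  rw [mat_subfieldHom, Matrix.map_apply]
  exact SetLike.coe_mem _

/-- Conjugation by a torus element with parameter outside the subfield leaves only diagonal
matrices in the subfield group. -/
theorem eq_zero_of_conj_torus {K : _root_.Subfield F} {T : Fˣ} (hT : (T : F) ^ (e + 2) ∉ K)
    {g : Sz F e} (hg : g ∈ subGen H K) (hg' : sh H T * g * (sh H T)⁻¹ ∈ subGen H K) {i j : Fin 4}
    (hij : i ≠ j) : mat g i j = 0 := by
  by_contra hne
  set g' := sh H T * g * (sh H T)⁻¹ with hdef
  have hmul : sh H T * g = g' * sh H T := by rw [hdef]; group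
  have h := congrArg (fun y => mat y i j) hmul
  have hT0 : (T : F) ≠ 0 := T.ne_zero
  set c : Fin 4 → F := ![(T : F) ^ (e + 1), (T : F), (T : F)⁻¹, ((T : F) ^ (e + 1))⁻¹] with hc
  have hL : mat (sh H T * g) i j = c i * mat g i j := by
    rw [mat_mul]
    fin_cases i <;> simp [mat, sh, hGL, hMat, hc, Matrix.mul_apply, Fin.sum_univ_four]
  have hR : mat (g' * sh H T) i j = mat g' i j * c j := by
    rw [mat_mul]
    fin_cases j <;> simp [mat, sh, hGL, hMat, hc, Matrix.mul_apply, Fin.sum_univ_four]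
  rw [hL, hR] at h
  have hc0 : ∀ k, c k ≠ 0 := fun k => by fin_cases k <;> simp [hc, hT0]
  have hr : c i / c j ∈ K := by
    have e1 : c i / c j = mat g' i j / mat g i j := by
      rw [div_eq_div_iff (hc0 j) hne]; exact h
    rw [e1]
    exact K.div_mem (mat_mem_of_subGen H hg' i j) (mat_mem_of_subGen H hg i j)
  have hr' : c j / c i ∈ K := by rw [← inv_div]; exact K.inv_mem hr
  obtain ⟨k, hk⟩ := H.two_pow
  have sqroot : ∀ y : F, y ^ 2 ∈ K → y ∈ K := by
    intro y hy
    obtain ⟨w, hw⟩ := Finite.surjective_of_injective (f := fun w : K => w ^ 2)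
      (fun a b hab => Subtype.ext (H.sq_inj (congrArg (fun w : K => (w : F)) hab))) ⟨_, hy⟩
    rw [← H.sq_inj (congrArg Subtype.val hw : ((w : F)) ^ 2 = y ^ 2)]
    exact w.2
  have h2 : (T : F) ^ 2 ∉ K := fun h => by
    have hT1 := sqroot _ h
    exact hT (K.pow_mem hT1 _)
  have h1 : (T : F) ^ e ∉ K := fun h => h2 (by rw [← H.sq]; exact K.pow_mem h e)
  have h22 : ((T : F) ^ (e + 1)) ^ 2 ∉ K := fun h => hT (by
    have h' := K.pow_mem (sqroot _ h) e
    rw [pow_succ, mul_pow, H.sq, mul_comm, ← pow_add] at h'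
    exact h')
  fin_cases i <;> fin_cases j <;>
    first
      | exact hij rfl
      | (refine h1 ?_; convert hr using 1; (simp [hc, pow_succ]) <;> field_simp <;> (try ring1); done)
      | (refine h1 ?_; convert hr' using 1; (simp [hc, pow_succ]) <;> field_simp <;> (try ring1); done)
      | (refine hT ?_; convert hr using 1; (simp [hc, pow_succ]) <;> field_simp <;> (try ring1); done)
      | (refine hT ?_; convert hr' using 1; (simp [hc, pow_succ]) <;> field_simp <;> (try ring1); done)
      | (refine h2 ?_; convert hr using 1; (simp [hc, pow_succ]) <;> field_simp <;> (try ring1); done)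
      | (refine h2 ?_; convert hr' using 1; (simp [hc, pow_succ]) <;> field_simp <;> (try ring1); done)
      | (refine h22 ?_; convert hr using 1; (simp [hc, pow_succ]) <;> field_simp <;> (try ring1); done)
      | (refine h22 ?_; convert hr' using 1; (simp [hc, pow_succ]) <;> field_simp <;> (try ring1); done)

/-- A proper subfield subgroup. -/
theorem hasTriangle_subGen (K : _root_.Subfield F) (hK : ∃ v : F, v ∉ K) : HasTriangle (subGen H K) := by
  obtain ⟨ν, hν⟩ := hK
  have hν' : 1 + ν ∉ K := fun h => hν (by simpa using K.sub_mem h K.one_mem)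
  have hex : ∀ v : F, v ∉ K → ∃ T : Fˣ, (T : F) ^ (e + 2) = v := by
    intro v hv
    obtain ⟨T, hT⟩ := Finite.surjective_of_injective (f := fun x : Fˣ => x ^ (e + 2))
      (fun x y h => pow_e2_inj H x y h) (Units.mk0 v fun h => hv (h ▸ K.zero_mem))
    exact ⟨T, congrArg Units.val hT⟩
  obtain ⟨T, hT⟩ := hex ν hν
  obtain ⟨T', hT'⟩ := hex _ hν'
  have hconj : ∀ T : Fˣ, sh H T * sz H ((T : F) ^ (e + 2)) * (sh H T)⁻¹ = sz H 1 := fun T => by
    have h := sz_mul_sh H T 1
    rw [mul_one] at h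
    rw [← h, mul_inv_cancel_right]
  have h1 : sz H (1 : F) ∈ subGen H K :=
    Subgroup.subset_closure (Or.inl (Or.inl ⟨0, K.zero_mem, 1, K.one_mem, rfl⟩))
  refine ⟨sz H 1, sz H ν, sz H (1 + ν), (sh H T)⁻¹, (sh H T')⁻¹, h1, ?_, ?_, ?_,
    fun m₁ m₂ hm1 hm1' hm2 hm2' heq => ?_⟩
  · rw [inv_inv, ← hT, hconj]; exact h1
  · rw [inv_inv, ← hT', hconj]; exact h1
  · rw [sz_mul, show ν + (1 + ν) = 1 by linear_combination ν * H.two]
  · rw [inv_inv] at hm1' hm2'
    have d1 : ∀ i j, i ≠ j → mat m₁ i j = 0 := fun i j h =>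
      eq_zero_of_conj_torus H (hT ▸ hν) hm1 hm1' h
    have d2 : ∀ i j, i ≠ j → mat m₂ i j = 0 := fun i j h =>
      eq_zero_of_conj_torus H (hT' ▸ hν') hm2 hm2' h
    have h := congrArg (fun y => mat y 2 0) heq
    rw [mat_mul, Matrix.mul_apply, Fin.sum_univ_four, d1 2 0 (by decide), d1 2 1 (by decide),
      d1 2 3 (by decide), d2 2 0 (by decide)] at h
    simp [mat, su, uGL, uMat] at h

end CfsgLib.KnownA.Suzuki.Binary
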