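import Cfsg.Agent.Lib.KnownA.Suzuki.Binary.Borel
import Cfsg.Agent.Lib.KnownA.Suzuki.Binary.Subfield
import Cfsg.Agent.Lib.KnownA.Suzuki.Subgroups

/-!
# The binary transitive actions of the Suzuki groups
-/

set_option autoImplicit false

namespace CfsgLib.KnownA.Suzuki.Binary

open Cfsg.Lie

variable {F : Type*} [Field F] [Fintype F] {e m : ℕ} (H : TitsField F e) (hm : 1 ≤ m)
  (hF : Fintype.card F = 2 ^ (2 * m + 1)) (he : e = 2 ^ (m + 1))

include H

theorem mem_smul_uniSylow (k g : Sz F e) :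
    g ∈ ((k • uniSylow H hF : Sylow 2 (Sz F e)) : Subgroup (Sz F e)) ↔ k⁻¹ * g * k ∈ uni H := by
  have h : ((k • uniSylow H hF : Sylow 2 (Sz F e)) : Subgroup (Sz F e)) =
      (uni H).map (MulAut.conj k).toMonoidHom := rfl
  rw [h, Subgroup.mem_map_equiv, MulAut.conj_symm_apply]

include hm hF in
theorem mem_center_sylow_iff (P : Sylow 2 (Sz F e)) {k : Sz F e}
    (hk : ∀ g, g ∈ (P : Subgroup (Sz F e)) ↔ k⁻¹ * g * k ∈ uni H) (x : Sz F e) :
    x ∈ (Subgroup.center (P : Subgroup (Sz F e))).map (P : Subgroup (Sz F e)).subtype ↔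
      ∃ b : F, k⁻¹ * x * k = sz H b := by
  have h4 : 4 ≤ Nat.card F := by
    rw [Nat.card_eq_fintype_card, hF]
    calc 4 = 2 ^ 2 := rfl
      _ ≤ _ := Nat.pow_le_pow_right two_pos (by omega)
  constructor
  · rintro ⟨⟨y, hy⟩, hyc, rfl⟩
    have hy' : k⁻¹ * y * k ∈ uni H := (hk y).1 hy
    refine (center_eq H h4 ⟨_, hy'⟩).1 (Subgroup.mem_center_iff.2 ?_)
    rintro ⟨u, hu⟩
    have h := congrArg Subtype.val (Subgroup.mem_center_iff.1 hyc ⟨k * u * k⁻¹, (hk _).2 (by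
      simpa [mul_assoc] using hu)⟩)
    refine Subtype.ext ?_
    show u * (k⁻¹ * y * k) = k⁻¹ * y * k * u
    have h' : k⁻¹ * (k * u * k⁻¹ * y) * k = k⁻¹ * (y * (k * u * k⁻¹)) * k :=
      congrArg (fun z => k⁻¹ * z * k) h
    simpa [mul_assoc] using h'
  · rintro ⟨b, hb⟩
    have hx : x ∈ (P : Subgroup (Sz F e)) := (hk x).2 (by rw [hb]; exact ⟨0, b, rfl⟩)
    refine ⟨⟨x, hx⟩, Subgroup.mem_center_iff.2 ?_, rfl⟩
    rintro ⟨y, hy⟩
    obtain ⟨c, d, hcd⟩ := (hk y).1 hy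
    refine Subtype.ext ?_
    show y * x = x * y
    rw [show y = k * su H c d * k⁻¹ by rw [← hcd]; group, show x = k * sz H b * k⁻¹ by rw [← hb]; group,
      show k * su H c d * k⁻¹ * (k * sz H b * k⁻¹) = k * (su H c d * sz H b) * k⁻¹ by group,
      show k * sz H b * k⁻¹ * (k * su H c d * k⁻¹) = k * (sz H b * su H c d) * k⁻¹ by group, sz_mul_su]

include hm hF he in
theorem cases_of_le_normalizer_sylow {M : Subgroup (Sz F e)} (P : Sylow 2 (Sz F e))
    (hMP : M ≤ Subgroup.normalizer ((P : Subgroup (Sz F e)) : Set (Sz F e))) :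
    HasTriangle M ∨ M = ⊥ ∨ ∃ Q : Sylow 2 (Sz F e),
      M = (Subgroup.center (Q : Subgroup (Sz F e))).map (Q : Subgroup (Sz F e)).subtype := by
  obtain ⟨k, hk⟩ := exists_sylow_conj_uni H hF P
  have hM' : M.map (MulAut.conj k⁻¹).toMonoidHom ≤ borel H := by
    rintro _ ⟨g, hg, rfl⟩
    rw [← normalizer_uni, Subgroup.mem_normalizer_iff]
    intro z
    have h := Subgroup.mem_normalizer_iff.1 (hMP hg) (k * z * k⁻¹)
    rw [hk, hk] at h
    simpa [mul_assoc] using h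
  rcases borel_cases H hm hF he hM' with h | h | ⟨c, hc⟩
  · exact Or.inl (h.of_conj k⁻¹)
  · refine Or.inr (Or.inl ?_)
    exact (Subgroup.map_eq_bot_iff_of_injective _ (MulAut.conj k⁻¹).injective).1 h
  · refine Or.inr (Or.inr ⟨(c * k⁻¹)⁻¹ • uniSylow H hF, ?_⟩)
    ext x
    rw [mem_center_sylow_iff H hm hF _ (mem_smul_uniSylow H hF _) x]
    rw [Subgroup.map_map] at hc
    have h := hc (c * k⁻¹ * x * (c * k⁻¹)⁻¹)
    rw [inv_inv]
    refine Iff.trans ⟨fun hx => ⟨x, hx, ?_⟩, fun ⟨y, hy, hyx⟩ => ?_⟩ h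
    · simp [mul_assoc]
    · have hxy : y = x := by
        simpa [mul_assoc] using hyx
      exact hxy ▸ hy

include hm hF he in
theorem cases_of_subgroup (M : Subgroup (Sz F e)) (hM : M ≠ ⊤) :
    HasTriangle M ∨ M = ⊥ ∨ ∃ Q : Sylow 2 (Sz F e),
      M = (Subgroup.center (Q : Subgroup (Sz F e))).map (Q : Subgroup (Sz F e)).subtype := by
  classical
  haveI := Fact.mk Nat.prime_two
  rcases subgroup_cases H hm hF he M with ⟨P, hP⟩ | ⟨U, hUc, hU, hMU⟩ | ⟨c, S, h1⟩
  · exact cases_of_le_normalizer_sylow H hm hF he P hP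
  · by_cases hne : M = ⊥
    · exact Or.inr (Or.inl hne)
    by_cases hodd : Odd (Nat.card M)
    · exact Or.inl (hasTriangle_of_odd H hm hF he hne hodd)
    obtain ⟨t, ht⟩ := exists_prime_orderOf_dvd_card' (G := M) 2
      (Nat.not_odd_iff_even.1 hodd).two_dvd
    have htt : (t : Sz F e) * t = 1 := by
      rw [← sq, ← Subgroup.coe_pow, ← ht, pow_orderOf_eq_one, Subgroup.coe_one]
    have ht1 : (t : Sz F e) ≠ 1 := fun h => by
      rw [show t = 1 from Subtype.ext h, orderOf_one] at ht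
      exact absurd ht (by norm_num)
    by_cases hu : ∃ u ∈ M, u ∈ U ∧ u ≠ 1
    · obtain ⟨u, huM, huU, hu1⟩ := hu
      exact Or.inl (hasTriangle_of_normalizer_torus H hm hF he hUc hU hMU huM huU hu1 t.2 htt ht1)
    push Not at hu
    have h4 : ∀ g ∈ M, g ^ 4 = 1 := fun g hg => by
      rcases odd_or_pow_four H g with ho | h4
      · rw [hu g hg (mem_torus_of_odd H hm hF he hUc hU (hMU hg) ho), one_pow]
      · exact h4
    have hp : IsPGroup 2 M := fun g => ⟨2, Subtype.ext (by simpa using h4 g g.2)⟩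
    obtain ⟨P, hP⟩ := hp.exists_le_sylow
    exact cases_of_le_normalizer_sylow H hm hF he P (hP.trans Subgroup.le_normalizer)
  · obtain ⟨K, -, hK⟩ := moved_eq_subGen H hF _ S h1
    refine Or.inl (HasTriangle.of_conj c (hK ▸ hasTriangle_subGen H K ?_))
    by_contra hall
    push Not at hall
    have h4 : 4 ≤ Nat.card F := by
      rw [Nat.card_eq_fintype_card, hF]
      calc 4 = 2 ^ 2 := rfl
        _ ≤ _ := Nat.pow_le_pow_right two_pos (by omega)
    have htop : subGen H K = ⊤ := eq_top_of_uni_le H h4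
      (by rintro _ ⟨a, b, rfl⟩
          exact Subgroup.subset_closure (Or.inl (Or.inl ⟨a, hall a, b, hall b, rfl⟩)))
      (Subgroup.subset_closure (Or.inr rfl)) (sw_notMem_borel H)
    refine hM (Subgroup.map_injective (f := (MulAut.conj c).toMonoidHom) (MulAut.conj c).injective ?_)
    rw [hK, htop, Subgroup.map_top_of_surjective _ (MulAut.conj c).surjective]

include hm hF in
theorem isBinary_center (P : Sylow 2 (Sz F e)) :
    IsBinary ((Subgroup.center (P : Subgroup (Sz F e))).map (P : Subgroup (Sz F e)).subtype) := by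
  classical
  obtain ⟨k, hk⟩ := exists_sylow_conj_uni H hF P
  set M := (Subgroup.center (P : Subgroup (Sz F e))).map (P : Subgroup (Sz F e)).subtype with hMdef
  have hstab : ∀ ω : Sz F e ⧸ M, ∃ Q : Sylow 2 (Sz F e), MulAction.stabilizer (Sz F e) ω =
      (Subgroup.center (Q : Subgroup (Sz F e))).map (Q : Subgroup (Sz F e)).subtype ∧
      ∀ x : Sz F e, x • ω = ω → x ∈ (Q : Subgroup (Sz F e)) ∧ x * x = 1 := by
    intro ω
    obtain ⟨g, rfl⟩ := QuotientGroup.mk_surjective ω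
    have hQ := mem_smul_uniSylow H hF (g * k)
    have hiff : ∀ x : Sz F e, x • (g : Sz F e ⧸ M) = g ↔ ∃ b : F, (g * k)⁻¹ * x * (g * k) = sz H b :=
      fun x => by
        rw [smul_mk_eq, hMdef, mem_center_sylow_iff H hm hF P hk]
        simp [mul_assoc]
    refine ⟨(g * k) • uniSylow H hF, ?_, fun x hx => ?_⟩
    · ext x
      rw [MulAction.mem_stabilizer_iff, mem_center_sylow_iff H hm hF _ hQ]
      exact hiff x
    · obtain ⟨b, hb⟩ := (hiff x).1 hx
      refine ⟨(hQ x).2 (by rw [hb]; exact ⟨0, b, rfl⟩), ?_⟩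
      have h : (g * k)⁻¹ * (x * x) * (g * k) = 1 := by
        rw [show (g * k)⁻¹ * (x * x) * (g * k) = ((g * k)⁻¹ * x * (g * k)) * ((g * k)⁻¹ * x * (g * k)) by
          group, hb, sz_mul, H.add_self]
        exact su_zero H
      have h' := congrArg (fun z => (g * k) * z * (g * k)⁻¹) h
      simpa [mul_assoc] using h'
  intro n I J hn hp
  refine binary_of_stabilizers (fun ω ω' ω'' a b ha hb hab => ?_) n I J hn hp
  obtain ⟨Q₁, hs₁, hm₁⟩ := hstab ω
  obtain ⟨Q₂, hs₂, hm₂⟩ := hstab ω'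
  obtain ⟨Q₃, -, hm₃⟩ := hstab ω''
  obtain ⟨haQ, haa⟩ := hm₁ a ha
  obtain ⟨hbQ, hbb⟩ := hm₂ b hb
  obtain ⟨-, habab⟩ := hm₃ _ hab
  by_cases ha1 : a = 1
  · exact Or.inl ha1
  by_cases hb1 : b = 1
  · exact Or.inr (Or.inl hb1)
  refine Or.inr (Or.inr ?_)
  have hai : a⁻¹ = a := inv_eq_of_mul_eq_one_right haa
  have hbi : b⁻¹ = b := inv_eq_of_mul_eq_one_right hbb
  rw [hai] at habab
  have hcomm : a * b = b * a := by
    have h := inv_eq_of_mul_eq_one_right habab
    rwa [mul_inv_rev, hai, hbi, eq_comm] at h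
  obtain ⟨l, hl⟩ := exists_sylow_conj_uni H hF Q₁
  -- `b` normalises `Q₁`
  have hQb : ((b • Q₁ : Sylow 2 (Sz F e)) : Subgroup (Sz F e)) = Q₁ :=
    sylow_eq_of_mem H hF (g := a) ⟨a, haQ, by
      show b * a * b⁻¹ = a
      rw [← hcomm, mul_inv_cancel_right]⟩ haQ ha1
  have hbN : b ∈ Subgroup.normalizer ((Q₁ : Subgroup (Sz F e)) : Set (Sz F e)) :=
    Sylow.smul_eq_iff_mem_normalizer.1 (Sylow.ext hQb)
  have hbu : l⁻¹ * b * l ∈ uni H := by
    refine mem_uni_of_pow_four H ?_ ?_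
    · rw [← normalizer_uni, Subgroup.mem_normalizer_iff]
      intro z
      have h := Subgroup.mem_normalizer_iff.1 hbN (l * z * l⁻¹)
      rw [hl, hl] at h
      simpa [mul_assoc] using h
    · exact pow_four_of_sq (by
        rw [show l⁻¹ * b * l * (l⁻¹ * b * l) = l⁻¹ * (b * b) * l by group, hbb]; simp)
  rw [hs₁, hs₂, Sylow.ext (sylow_eq_of_mem H hF ((hl b).2 hbu) hbQ hb1)]

include hm hF he in
theorem isBinary_iff (M : Subgroup (Sz F e)) (hM : M ≠ ⊤) :
    IsBinary M ↔ M = ⊥ ∨ ∃ P : Sylow 2 (Sz F e),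
      M = (Subgroup.center (P : Subgroup (Sz F e))).map (P : Subgroup (Sz F e)).subtype := by
  refine ⟨fun hb => (cases_of_subgroup H hm hF he M hM).resolve_left fun h => h.not_isBinary hb, ?_⟩
  rintro (rfl | ⟨P, rfl⟩)
  · intro n I J hn hp
    refine binary_of_stabilizers (fun ω _ _ a _ ha _ _ => Or.inl ?_) n I J hn hp
    obtain ⟨g, rfl⟩ := QuotientGroup.mk_surjective ω
    rw [smul_mk_eq, Subgroup.mem_bot] at ha
    have h := congrArg (fun z => g * z * g⁻¹) ha
    simpa [mul_assoc] using h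
  · exact isBinary_center H hm hF P

end CfsgLib.KnownA.Suzuki.Binary
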